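import Cfsg.Agent.Lib.Chev.TwistF4Two

/-!
Words in the root elements of `F₄(2)` evaluated on all unit vectors at once, in lanes of width 64
inside one number.
-/

set_option autoImplicit false
set_option maxRecDepth 100000
set_option linter.unusedSimpArgs false

namespace CfsgLib.Tits.Packed

open Cfsg.Lie CfsgLib.Chev CfsgLib.Chev.F4Two

/-- One bit at the bottom of each lane. -/
def onesN : ℕ → ℕ
  | 0 => 0
  | n + 1 => 1 + 2 ^ 64 * onesN n

/-- The constant with one bit at the bottom of the 52 lanes. -/
def ones : ℕ :=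
  ((List.range 52).map fun k => 2 ^ (64 * k)).foldl (· + ·) 0

theorem ones_eq : ones = onesN 52 := by decide +kernel

/-- A lane. -/
def lane (X k : ℕ) : ℕ := (X >>> (64 * k)) % 2 ^ 64

theorem testBit_lane (X k i : ℕ) :
    (lane X k).testBit i = (decide (i < 64) && X.testBit (64 * k + i)) := by
  rw [lane, Nat.testBit_mod_two_pow, Nat.testBit_shiftRight]

theorem lane_xor (A B k : ℕ) : lane (A ^^^ B) k = lane A k ^^^ lane B k := by
  refine Nat.eq_of_testBit_eq fun i => ?_
  simp only [testBit_lane, Nat.testBit_xor]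
  by_cases h : i < 64 <;> simp [h]

theorem lane_zero_left (k : ℕ) : lane 0 k = 0 := by simp [lane]

theorem onesN_mod (n : ℕ) : onesN (n + 1) % 2 ^ 64 = 1 := by
  rw [onesN, Nat.add_mul_mod_self_left]
  norm_num

/-- A product of spread bits with a lane. -/
theorem lane_spread_mul : ∀ (n Y m k : ℕ), m < 2 ^ 64 → k < n →
    lane ((Y &&& onesN n) * m) k = if Y.testBit (64 * k) then m else 0
  | 0, _, _, _, _, hk => absurd hk (Nat.not_lt_zero _)
  | n + 1, Y, m, k, hm, hk => by
    set b := if Y.testBit 0 then 1 else 0 with hb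
    have hsplit : Y &&& onesN (n + 1) = b + 2 ^ 64 * ((Y >>> 64) &&& onesN n) := by
      refine Nat.eq_of_testBit_eq fun i => ?_
      have hb1 : b < 2 ^ 64 := by rw [hb]; split_ifs <;> norm_num
      rw [add_comm b, Nat.testBit_two_pow_mul_add _ hb1, Nat.testBit_and, onesN, add_comm 1,
        Nat.testBit_two_pow_mul_add _ (by norm_num : (1 : ℕ) < 2 ^ 64)]
      by_cases hi : i < 64
      · rw [if_pos hi, if_pos hi, hb]
        rcases Nat.eq_zero_or_pos i with rfl | hi0
        · by_cases h : Y.testBit 0 <;> simp [h]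
        · have h1 : (1 : ℕ).testBit i = false := by
            rw [← pow_zero 2, Nat.testBit_two_pow]; simp; omega
          split_ifs <;> simp [h1]
      · rw [if_neg hi, if_neg hi, Nat.testBit_and, Nat.testBit_shiftRight,
          show 64 + (i - 64) = i by omega]
    have hbm : b * m < 2 ^ 64 := by rw [hb]; split_ifs <;> omega
    rw [hsplit, add_mul, mul_assoc, add_comm]
    rcases k with _ | k
    · refine Nat.eq_of_testBit_eq fun i => ?_
      rw [testBit_lane, mul_zero, zero_add, Nat.testBit_two_pow_mul_add _ hbm]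
      by_cases hi : i < 64
      · rw [if_pos hi, hb]; simp only [hi, decide_true, Bool.true_and, mul_zero]
        by_cases h : Y.testBit 0 <;> simp [h]
      · simp only [hi, decide_false, Bool.false_and]
        by_cases h : Y.testBit 0
        · simp only [mul_zero, h, if_true]
          exact (Nat.testBit_lt_two_pow (hm.trans_le (Nat.pow_le_pow_right two_pos (by omega)))).symm
        · simp [mul_zero, h]
    · have ih := lane_spread_mul n (Y >>> 64) m k hm (by omega)
      rw [Nat.testBit_shiftRight, show 64 + 64 * k = 64 * (k + 1) by ring] at ih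
      rw [← ih]
      refine Nat.eq_of_testBit_eq fun i => ?_
      rw [testBit_lane, testBit_lane, Nat.testBit_two_pow_mul_add _ hbm,
        if_neg (show ¬ 64 * (k + 1) + i < 64 by omega),
        show 64 * (k + 1) + i - 64 = 64 * k + i by omega]

/-- The lanes with bit `p` set, times a lane. -/
theorem lane_sel {p m k : ℕ} (X : ℕ) (hp : p < 64) (hm : m < 2 ^ 64) (hk : k < 52) :
    lane (((X >>> p) &&& ones) * m) k = if (lane X k).testBit p then m else 0 := by
  rw [ones_eq, lane_spread_mul 52 _ m k hm hk, Nat.testBit_shiftRight, testBit_lane,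
    show p + 64 * k = 64 * k + p by ring]
  simp [hp]

/-- A root element on all lanes. -/
def stepP (r X : ℕ) : ℕ :=
  (dev r).foldl (fun acc q => acc ^^^ ((X >>> q.1) &&& ones) * q.2) X

theorem dev_bound : ((List.range 48).all fun r =>
    (dev r).all fun q => decide (q.1 < 64) && decide (q.2 < 2 ^ 64)) = true := by
  decide +kernel

theorem lane_stepP {r k : ℕ} (hr : r < 48) (hk : k < 52) (X : ℕ) :
    lane (stepP r X) k = step r (lane X k) := by
  have hd := dev_bound
  simp only [List.all_eq_true, List.mem_range, Bool.and_eq_true, decide_eq_true_eq] at hd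
  have key : ∀ (L : List (ℕ × ℕ)), (∀ q ∈ L, q.1 < 64 ∧ q.2 < 2 ^ 64) → ∀ A : ℕ,
      lane (L.foldl (fun acc q => acc ^^^ ((X >>> q.1) &&& ones) * q.2) A) k =
        L.foldl (fun acc q => if (lane X k).testBit q.1 then acc ^^^ q.2 else acc) (lane A k) := by
    intro L
    induction L with
    | nil => intro _ A; rfl
    | cons q L ih =>
      intro hL A
      rw [List.foldl_cons, List.foldl_cons, ih (fun x hx => hL x (List.mem_cons_of_mem _ hx)),
        lane_xor, lane_sel X (hL q List.mem_cons_self).1 (hL q List.mem_cons_self).2 hk]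
      by_cases h : (lane X k).testBit q.1 <;> simp [h]
  exact key (dev r) (hd r hr) X

/-- A word on all lanes. -/
def evalP (w : List ℕ) (X : ℕ) : ℕ := w.foldr stepP X

theorem lane_evalP {k : ℕ} (hk : k < 52) (X : ℕ) : ∀ {w : List ℕ}, (∀ r ∈ w, r < 48) →
    lane (evalP w X) k = evalW w (lane X k)
  | [], _ => rfl
  | r :: w, hw => by
    show lane (stepP r (evalP w X)) k = step r (evalW w (lane X k))
    rw [lane_stepP (hw r List.mem_cons_self) hk,
      lane_evalP hk X fun s hs => hw s (List.mem_cons_of_mem _ hs)]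

/-- The unit vectors, in lanes. -/
def unitsP : ℕ := ((List.range 52).map fun k => 2 ^ (64 * k + k)).foldl (· + ·) 0

theorem lane_unitsP : ((List.range 52).all fun k => lane unitsP k == 2 ^ k) = true := by
  decide +kernel

/-- Two words agree, by the packed evaluation. -/
def eqP (v w : List ℕ) : Bool :=
  (v.all fun r => decide (r < 48)) && ((w.all fun r => decide (r < 48)) &&
    (evalP v unitsP == evalP w unitsP))

theorem eqChk_of_eqP {v w : List ℕ} (h : eqP v w = true) : eqChk v w = true := by
  simp only [eqP, Bool.and_eq_true, List.all_eq_true, decide_eq_true_eq, beq_iff_eq] at h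
  obtain ⟨hv, hw, he⟩ := h
  simp only [eqChk, Bool.and_eq_true, List.all_eq_true, decide_eq_true_eq, List.mem_range]
  refine ⟨hv, hw, fun c hc => ?_⟩
  have hl := lane_unitsP
  simp only [List.all_eq_true, List.mem_range, beq_iff_eq] at hl
  rw [← hl c hc, ← lane_evalP hc unitsP hv, ← lane_evalP hc unitsP hw, he]

theorem Wd_eq_of_eqP {v w : List ℕ} (h : eqP v w = true) : Wd v = Wd w :=
  Wd_eq_of_eqChk (eqChk_of_eqP h)

end CfsgLib.Tits.Packed
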