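import Cfsg.Agent.Lib.Tits.MultData

/-!
The deductions of the table of order 6144 are correct.
-/

set_option autoImplicit false
set_option maxRecDepth 100000

namespace CfsgLib.Tits.Mult

set_option maxHeartbeats 0 in
theorem tab_ok : tab.ok = true := by decide +kernel

end CfsgLib.Tits.Mult
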