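import Cfsg.Agent.Lib.Tits.Words
import Mathlib.GroupTheory.GroupAction.MultipleTransitivity
import Mathlib.GroupTheory.PGroup

/-!
The Tits group has no faithful two-transitive action on three or more points: counting orbits of a
subgroup of order 27 and one of order 25, both with all nontrivial elements conjugate.
-/

set_option autoImplicit false
set_option maxRecDepth 100000

namespace CfsgLib.Tits

open Cfsg.Lie CfsgLib.Chev CfsgLib.Chev.F4Two MulAction

section generic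

variable {G : Type*} [Group G]

/-- Product of powers of three elements. -/
def nf3 (a b c : G) (i j k : ℕ) : G := a ^ i * b ^ j * c ^ k

variable {a b c : G}

theorem pow_comm3 (hca : Commute c a) (hcb : Commute c b) (hba : b * a = a * b * c) :
    ∀ i j : ℕ, b ^ j * a ^ i = a ^ i * b ^ j * c ^ (i * j) := by
  have h1 : ∀ j : ℕ, b ^ j * a = a * b ^ j * c ^ j := by
    intro j
    induction j with
    | zero => simp
    | succ j ih =>
      rw [pow_succ', mul_assoc, ih, ← mul_assoc, ← mul_assoc, hba, mul_assoc (a * b) c (b ^ j),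
        (hcb.pow_right j).eq, pow_succ']
      simp only [mul_assoc]
  intro i j
  induction i with
  | zero => simp
  | succ i ih =>
    rw [pow_succ, ← mul_assoc, ih, mul_assoc _ (c ^ (i * j)) a, (hca.pow_left (i * j)).eq,
      ← mul_assoc _ a (c ^ (i * j)), mul_assoc (a ^ i) (b ^ j) a, h1, Nat.succ_mul, pow_add]
    simp only [mul_assoc]
    rw [(Commute.pow_pow_self c (i * j) j).eq]

theorem nf3_mul (hca : Commute c a) (hcb : Commute c b) (hba : b * a = a * b * c)
    (i j k l m o : ℕ) : nf3 a b c i j k * nf3 a b c l m o = nf3 a b c (i + l) (j + m) (k + o + l * j) := by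
  have h := pow_comm3 hca hcb hba l j
  unfold nf3
  calc a ^ i * b ^ j * c ^ k * (a ^ l * b ^ m * c ^ o)
      = a ^ i * b ^ j * (c ^ k * a ^ l) * b ^ m * c ^ o := by simp only [mul_assoc]
    _ = a ^ i * (b ^ j * a ^ l) * (c ^ k * b ^ m) * c ^ o := by
        rw [(hca.pow_pow k l).eq]; simp only [mul_assoc]
    _ = a ^ i * a ^ l * b ^ j * ((c ^ (l * j) * c ^ k) * b ^ m) * c ^ o := by
        rw [h]; simp only [mul_assoc]
    _ = a ^ (i + l) * b ^ (j + m) * c ^ (k + o + l * j) := by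
        rw [← pow_add, ← pow_add, (hcb.pow_pow (l * j + k) m).eq,
          show k + o + l * j = l * j + k + o by ring, pow_add b, pow_add c (l * j + k)]
        simp only [mul_assoc]

theorem nf3_mod (ha : a ^ 3 = 1) (hb : b ^ 3 = 1) (hc : c ^ 3 = 1) (i j k : ℕ) :
    nf3 a b c i j k = nf3 a b c (i % 3) (j % 3) (k % 3) := by
  unfold nf3
  rw [← pow_eq_pow_mod i ha, ← pow_eq_pow_mod j hb, ← pow_eq_pow_mod k hc]

/-- The subgroup of products of powers. -/
def heis (ha : a ^ 3 = 1) (hb : b ^ 3 = 1) (hc : c ^ 3 = 1) (hca : Commute c a) (hcb : Commute c b)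
    (hba : b * a = a * b * c) : Subgroup G where
  carrier := Set.range fun p : Fin 3 × Fin 3 × Fin 3 => nf3 a b c p.1 p.2.1 p.2.2
  one_mem' := ⟨(0, 0, 0), by simp [nf3]⟩
  mul_mem' := by
    rintro _ _ ⟨p, rfl⟩ ⟨q, rfl⟩
    refine ⟨(⟨_, Nat.mod_lt ((p.1 : ℕ) + q.1) (by norm_num)⟩, ⟨_, Nat.mod_lt ((p.2.1 : ℕ) + q.2.1)
      (by norm_num)⟩, ⟨_, Nat.mod_lt ((p.2.2 : ℕ) + q.2.2 + q.1 * p.2.1) (by norm_num)⟩), ?_⟩
    show nf3 a b c _ _ _ = _
    rw [nf3_mul hca hcb hba, nf3_mod ha hb hc ((p.1 : ℕ) + q.1)]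
  inv_mem' := by
    rintro _ ⟨p, rfl⟩
    have hm : ∀ i j k : ℕ, nf3 a b c i j k ∈
        Set.range fun p : Fin 3 × Fin 3 × Fin 3 => nf3 a b c p.1 p.2.1 p.2.2 := fun i j k =>
      ⟨(⟨_, Nat.mod_lt i (by norm_num)⟩, ⟨_, Nat.mod_lt j (by norm_num)⟩,
        ⟨_, Nat.mod_lt k (by norm_num)⟩), (nf3_mod ha hb hc i j k).symm⟩
    show (nf3 a b c p.1 p.2.1 p.2.2)⁻¹ ∈ _
    have e : (nf3 a b c p.1 p.2.1 p.2.2)⁻¹ =
        nf3 a b c 0 0 (2 * p.2.2) * nf3 a b c 0 (2 * p.2.1) 0 * nf3 a b c (2 * p.1) 0 0 := by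
      have hx : ∀ (x : G) (n : ℕ), x ^ 3 = 1 → (x ^ n)⁻¹ = x ^ (2 * n) := fun x n h =>
        inv_eq_of_mul_eq_one_right (by
          rw [← pow_add, show n + 2 * n = 3 * n by ring, pow_mul, h, one_pow])
      simp [nf3, hx a _ ha, hx b _ hb, hx c _ hc, mul_assoc]
    rw [e, nf3_mul hca hcb hba, nf3_mul hca hcb hba]
    exact hm _ _ _

theorem heis_card (ha : a ^ 3 = 1) (hb : b ^ 3 = 1) (hc : c ^ 3 = 1) (hca : Commute c a)
    (hcb : Commute c b) (hba : b * a = a * b * c)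
    (h1 : ∀ i j k : ℕ, nf3 a b c i j k = 1 → i % 3 = 0 ∧ j % 3 = 0 ∧ k % 3 = 0) :
    Nat.card ↥(heis ha hb hc hca hcb hba) = 27 := by
  have hinj : Function.Injective fun p : Fin 3 × Fin 3 × Fin 3 => nf3 a b c p.1 p.2.1 p.2.2 := by
    rintro ⟨i, j, k⟩ ⟨l, m, o⟩ he
    replace he : nf3 a b c i j k = nf3 a b c l m o := he
    set O := (o : ℕ) + 0 + 2 * (l : ℕ) * (m : ℕ) with hO
    have e2 := congrArg (fun x => x * nf3 a b c (2 * l) (2 * m) 0 * nf3 a b c 0 0 (2 * O)) he
    simp only [nf3_mul hca hcb hba, zero_mul, add_zero] at e2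
    rw [nf3_mod ha hb hc ((l : ℕ) + 2 * l), show ((l : ℕ) + 2 * l) % 3 = 0 by omega,
      show ((m : ℕ) + 2 * m) % 3 = 0 by omega,
      show ((o : ℕ) + 2 * l * m + 2 * O) % 3 = 0 by rw [hO]; omega] at e2
    obtain ⟨e3, e4, e5⟩ := h1 _ _ _ (e2.trans (by simp [nf3]))
    have hi : i = l := Fin.ext (by omega)
    have hj : j = m := Fin.ext (by omega)
    subst hi hj
    have hk : k = o := Fin.ext (by rw [hO] at e5; omega)
    rw [hk]
  rw [show Nat.card ↥(heis ha hb hc hca hcb hba) = Nat.card (Set.range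
      fun p : Fin 3 × Fin 3 × Fin 3 => nf3 a b c p.1 p.2.1 p.2.2) from rfl,
    Nat.card_range_of_injective hinj]
  simp

/-- The subgroup generated by two commuting elements of order five. -/
def square5 {e f : G} (he : e ^ 5 = 1) (hf : f ^ 5 = 1) (hef : Commute e f) : Subgroup G where
  carrier := Set.range fun p : Fin 5 × Fin 5 => e ^ (p.1 : ℕ) * f ^ (p.2 : ℕ)
  one_mem' := ⟨(0, 0), by simp⟩
  mul_mem' := by
    rintro _ _ ⟨p, rfl⟩ ⟨q, rfl⟩
    refine ⟨(⟨_, Nat.mod_lt ((p.1 : ℕ) + q.1) (by norm_num)⟩,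
      ⟨_, Nat.mod_lt ((p.2 : ℕ) + q.2) (by norm_num)⟩), ?_⟩
    show e ^ (((p.1 : ℕ) + q.1) % 5) * f ^ (((p.2 : ℕ) + q.2) % 5) = _
    rw [← pow_eq_pow_mod _ he, ← pow_eq_pow_mod _ hf, pow_add, pow_add]
    show _ = e ^ (p.1 : ℕ) * f ^ (p.2 : ℕ) * (e ^ (q.1 : ℕ) * f ^ (q.2 : ℕ))
    rw [mul_mul_mul_comm' ((hef.pow_pow (q.1 : ℕ) (p.2 : ℕ)))]
  inv_mem' := by
    rintro _ ⟨p, rfl⟩
    refine ⟨(⟨_, Nat.mod_lt (4 * (p.1 : ℕ)) (by norm_num)⟩,
      ⟨_, Nat.mod_lt (4 * (p.2 : ℕ)) (by norm_num)⟩), (inv_eq_of_mul_eq_one_right ?_).symm⟩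
    show e ^ (p.1 : ℕ) * f ^ (p.2 : ℕ) * (e ^ (4 * (p.1 : ℕ) % 5) * f ^ (4 * (p.2 : ℕ) % 5)) = 1
    rw [← pow_eq_pow_mod _ he, ← pow_eq_pow_mod _ hf, ← mul_mul_mul_comm'
      ((hef.pow_pow (4 * (p.1 : ℕ)) (p.2 : ℕ))), ← pow_add, ← pow_add,
      show (p.1 : ℕ) + 4 * p.1 = 5 * p.1 by ring, show (p.2 : ℕ) + 4 * p.2 = 5 * p.2 by ring,
      pow_mul, pow_mul, he, hf, one_pow, one_pow, mul_one]
where
  mul_mul_mul_comm' {G : Type _} [Group G] {x y z w : G} (h : Commute z y) :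
      x * z * (y * w) = x * y * (z * w) := h.mul_mul_mul_comm x w

theorem square5_card {e f : G} (he : e ^ 5 = 1) (hf : f ^ 5 = 1) (hef : Commute e f)
    (h1 : ∀ i j : ℕ, e ^ i * f ^ j = 1 → i % 5 = 0 ∧ j % 5 = 0) :
    Nat.card ↥(square5 he hf hef) = 25 := by
  have hinj : Function.Injective fun p : Fin 5 × Fin 5 => e ^ (p.1 : ℕ) * f ^ (p.2 : ℕ) := by
    rintro ⟨i, j⟩ ⟨l, m⟩ h
    replace h : e ^ (i : ℕ) * f ^ (j : ℕ) = e ^ (l : ℕ) * f ^ (m : ℕ) := h
    have h2 := congrArg (fun x => x * (e ^ (4 * (l : ℕ)) * f ^ (4 * (m : ℕ)))) h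
    simp only [(hef.pow_pow (4 * (l : ℕ)) (j : ℕ)).symm.mul_mul_mul_comm,
      (hef.pow_pow (4 * (l : ℕ)) (m : ℕ)).symm.mul_mul_mul_comm, ← pow_add] at h2
    rw [show (l : ℕ) + 4 * l = 5 * l by ring, show (m : ℕ) + 4 * m = 5 * m by ring, pow_mul,
      pow_mul, he, hf, one_pow, one_pow, one_mul] at h2
    obtain ⟨h3, h4⟩ := h1 _ _ h2
    exact Prod.ext (Fin.ext (by dsimp only; omega)) (Fin.ext (by dsimp only; omega))
  rw [show Nat.card ↥(square5 he hf hef) = Nat.card (Set.range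
      fun p : Fin 5 × Fin 5 => e ^ (p.1 : ℕ) * f ^ (p.2 : ℕ)) from rfl,
    Nat.card_range_of_injective hinj]
  simp

variable {Ω : Type*} [MulAction G Ω]

/-- The number of fixed points. -/
noncomputable def fx (Ω : Type*) [MulAction G Ω] (g : G) : ℕ := Nat.card (fixedBy Ω g)

theorem fx_conj (c g : G) : fx Ω (c * g * c⁻¹) = fx Ω g := by
  refine Nat.card_congr
    { toFun := fun x => ⟨c⁻¹ • x.1, ?_⟩
      invFun := fun x => ⟨c • x.1, ?_⟩
      left_inv := fun x => Subtype.ext (smul_inv_smul c x.1)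
      right_inv := fun x => Subtype.ext (inv_smul_smul c x.1) }
  · have h : (c * g * c⁻¹) • x.1 = x.1 := x.2
    show g • c⁻¹ • x.1 = c⁻¹ • x.1
    conv_rhs => rw [← h]
    rw [← mul_smul, ← mul_smul]
    congr 1
    group
  · have h : g • x.1 = x.1 := x.2
    show (c * g * c⁻¹) • c • x.1 = c • x.1
    rw [← mul_smul, inv_mul_cancel_right, mul_smul, h]

theorem fx_lt [Finite Ω] [FaithfulSMul G Ω] {g : G} (hg : g ≠ 1) : fx Ω g < Nat.card Ω := by
  classical
  have := Fintype.ofFinite Ω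
  obtain ⟨x, hx⟩ : ∃ x : Ω, g • x ≠ x := by
    by_contra h
    push Not at h
    exact hg (FaithfulSMul.eq_of_smul_eq_smul fun x : Ω => by rw [h x, one_smul])
  rw [fx, Nat.card_eq_fintype_card, Nat.card_eq_fintype_card]
  exact Fintype.card_subtype_lt (p := fun y => y ∈ fixedBy Ω g) (x := x) hx

theorem dvd_fix_sum [Finite Ω] (P : Subgroup G) [Finite P] {f : ℕ}
    (hf : ∀ p ∈ P, p ≠ 1 → fx Ω p = f) :
    Nat.card P ∣ Nat.card Ω + (Nat.card P - 1) * f := by
  classical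
  have := Fintype.ofFinite Ω
  have := Fintype.ofFinite P
  have h := sum_card_fixedBy_eq_card_orbits_mul_card_group P Ω
  rw [← Finset.sum_erase_add _ _ (Finset.mem_univ (1 : P))] at h
  have h1 : Fintype.card (fixedBy Ω (1 : P)) = Nat.card Ω := by
    rw [← Nat.card_eq_fintype_card]
    exact Nat.card_congr ((Equiv.subtypeUnivEquiv fun x => one_smul P x))
  rw [Finset.sum_congr rfl (g := fun _ => f) fun p hp => by
      rw [← Nat.card_eq_fintype_card]
      exact hf p.1 p.2 fun e => Finset.ne_of_mem_erase hp (Subtype.ext e),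
    Finset.sum_const, Finset.card_erase_of_mem (Finset.mem_univ _), Finset.card_univ, h1,
    ← Nat.card_eq_fintype_card, smul_eq_mul] at h
  rw [add_comm (Nat.card Ω), h]
  exact dvd_mul_left _ _

theorem two_trans_dvd [Finite G] [Finite Ω] (h : IsMultiplyPretransitive G Ω 2)
    (hn : 2 ≤ Nat.card Ω) : Nat.card Ω * (Nat.card Ω - 1) ∣ Nat.card G := by
  classical
  have := Fintype.ofFinite Ω
  obtain ⟨x, y, hxy⟩ := Fintype.exists_pair_of_one_lt_card
    (show 1 < Fintype.card Ω by rw [← Nat.card_eq_fintype_card]; omega)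
  have h2 : ({x, y} : Set Ω).ncard = 2 := Set.ncard_pair hxy
  have hi := IsMultiplyPretransitive.index_of_fixingSubgroup_eq (G := G) ({x, y} : Set Ω)
    (by rw [h2]; exact h)
  rw [h2, mul_comm, ← Nat.descFactorial_eq_factorial_mul_choose] at hi
  simp only [Nat.descFactorial_succ, Nat.descFactorial_zero, Nat.sub_zero, mul_one] at hi
  rw [mul_comm, ← hi]
  exact Subgroup.index_dvd_card _

end generic

section tits

theorem ne_chk : evalW (tW lz) 1 < 2 ^ 52 ∧ evalW (tW le) (2 ^ 1) < 2 ^ 52 := by decide +kernel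

theorem cov_chk : ((List.range 27).all fun n => (n == 0) ||
      wit3.any fun p => p.1 == (n / 9, n / 3 % 3, n % 3)) = true ∧
    ((List.range 25).all fun n => (n == 0) || wit5.any fun p => p.1 == (n / 5, n % 5)) = true := by
  decide +kernel

theorem tEl_ne_one_of {l : List (Fin 4)} {v : ℕ} (hv : v < 2 ^ 52) (hl : ∀ r ∈ tW l, r < 48)
    (hb : evalW (tW l) v < 2 ^ 52) (hne : evalW (tW l) v ≠ v) : tEl l ≠ 1 := by
  intro h
  have e := coe_tEl l
  rw [h] at e
  have e' := congrArg (fun g : Matrix.GeneralLinearGroup chevF4.Idx (ZMod 2) =>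
    Matrix.mulVec (g : Matrix chevF4.Idx chevF4.Idx (ZMod 2)) (phi v)) e
  simp only [OneMemClass.coe_one, Units.val_one, Matrix.one_mulVec] at e'
  rw [Wd_phi hl] at e'
  exact hne (phi_injOn hv hb e').symm

theorem z_ne : tEl lz ≠ 1 :=
  tEl_ne_one_of (by norm_num) (by decide +kernel) ne_chk.1 (by decide +kernel)

theorem e_ne : tEl le ≠ 1 :=
  tEl_ne_one_of (by norm_num) (by decide +kernel) ne_chk.2 (by decide +kernel)

theorem tEl_nil : tEl [] = 1 := List.prod_nil

theorem zab : tEl lz ^ 3 = 1 ∧ tEl la ^ 3 = 1 ∧ tEl lb ^ 3 = 1 ∧ Commute (tEl lz) (tEl la) ∧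
    Commute (tEl lz) (tEl lb) ∧ tEl lb * tEl la = tEl la * tEl lb * tEl lz := by
  obtain ⟨h1, h2, h3, h4, h5, h6⟩ := rel3
  refine ⟨?_, ?_, ?_, ?_, ?_, ?_⟩
  · rw [← tEl_rep, tEl_eq_of_wEq h1, tEl_nil]
  · rw [← tEl_rep, tEl_eq_of_wEq h2, tEl_nil]
  · rw [← tEl_rep, tEl_eq_of_wEq h3, tEl_nil]
  · show _ * _ = _ * _
    rw [← tEl_append, ← tEl_append, tEl_eq_of_wEq h4]
  · show _ * _ = _ * _
    rw [← tEl_append, ← tEl_append, tEl_eq_of_wEq h5]
  · rw [← tEl_append, ← tEl_append, ← tEl_append, tEl_eq_of_wEq h6]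

theorem eft : tEl le ^ 5 = 1 ∧ tEl lf ^ 5 = 1 ∧ Commute (tEl le) (tEl lf) ∧ tEl lt ^ 3 = 1 ∧
    (tEl lt)⁻¹ * tEl le * tEl lt = tEl le ^ 3 * tEl lf ^ 4 ∧
    (tEl lt)⁻¹ * tEl lf * tEl lt = tEl le ^ 3 * tEl lf := by
  obtain ⟨h1, h2, h3, h4, h5, h6⟩ := rel5
  refine ⟨?_, ?_, ?_, ?_, ?_, ?_⟩
  · rw [← tEl_rep, tEl_eq_of_wEq h1, tEl_nil]
  · rw [← tEl_rep, tEl_eq_of_wEq h2, tEl_nil]
  · show _ * _ = _ * _
    rw [← tEl_append, ← tEl_append, tEl_eq_of_wEq h3]
  · rw [← tEl_rep, tEl_eq_of_wEq h4, tEl_nil]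
  · rw [← tEl_reverse, ← tEl_append, ← tEl_append, ← tEl_rep, ← tEl_rep, ← tEl_append,
      tEl_eq_of_wEq h5]
  · rw [← tEl_reverse, ← tEl_append, ← tEl_append, ← tEl_rep, tEl_eq_of_wEq h6, tEl_append,
      tEl_rep _ lf, pow_one]

/-- The nontrivial products of powers in the subgroup of order 27 are conjugate to the centre. -/
theorem conj3 {i j k : ℕ} (h : ¬(i % 3 = 0 ∧ j % 3 = 0 ∧ k % 3 = 0)) :
    ∃ g, nf3 (tEl la) (tEl lb) (tEl lz) i j k = g * tEl lz * g⁻¹ := by
  obtain ⟨hz, ha, hb, -⟩ := zab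
  rw [nf3_mod ha hb hz]
  have hc := cov_chk.1
  simp only [List.all_eq_true, List.mem_range, Bool.or_eq_true, beq_iff_eq, List.any_eq_true] at hc
  rcases hc (9 * (i % 3) + 3 * (j % 3) + k % 3) (by omega) with h0 | ⟨⟨q, w⟩, hp, hq⟩
  · omega
  replace hq : q = (i % 3, j % 3, k % 3) := by
    dsimp only at hq; rw [hq]; simp only [Prod.mk.injEq]; omega
  subst hq
  have hw := wit3_chk
  simp only [List.all_eq_true] at hw
  refine ⟨tEl w, ?_⟩
  have e := tEl_eq_of_wEq (hw _ hp)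
  rw [tEl_append, tEl_append, tEl_append, tEl_append, tEl_rep, tEl_rep, tEl_rep, tEl_reverse] at e
  exact e

/-- The nontrivial elements of the subgroup of order 25 are conjugate to the first generator. -/
theorem conj5 {i j : ℕ} (h : ¬(i % 5 = 0 ∧ j % 5 = 0)) :
    ∃ g, tEl le ^ i * tEl lf ^ j = g * tEl le * g⁻¹ := by
  obtain ⟨he, hf, -⟩ := eft
  rw [pow_eq_pow_mod i he, pow_eq_pow_mod j hf]
  have hc := cov_chk.2
  simp only [List.all_eq_true, List.mem_range, Bool.or_eq_true, beq_iff_eq, List.any_eq_true] at hc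
  rcases hc (5 * (i % 5) + j % 5) (by omega) with h0 | ⟨⟨q, w⟩, hp, hq⟩
  · omega
  replace hq : q = (i % 5, j % 5) := by
    dsimp only at hq; rw [hq]; simp only [Prod.mk.injEq]; omega
  subst hq
  have hw := wit5_chk
  simp only [List.all_eq_true] at hw
  refine ⟨tEl w, ?_⟩
  have e := tEl_eq_of_wEq (hw _ hp)
  rw [tEl_append, tEl_append, tEl_append, tEl_rep, tEl_rep, tEl_reverse] at e
  exact e

theorem eq_one_of_conj {G : Type*} [Group G] {g x : G} (h : g * x * g⁻¹ = 1) : x = 1 := by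
  rwa [mul_inv_eq_one, mul_eq_left] at h

/-- The subgroup of order 27. -/
noncomputable def P27 : Subgroup TitsGroup :=
  heis zab.2.1 zab.2.2.1 zab.1 zab.2.2.2.1 zab.2.2.2.2.1 zab.2.2.2.2.2

theorem card_P27 : Nat.card P27 = 27 := heis_card _ _ _ _ _ _ fun i j k h => by
  by_contra hn
  obtain ⟨g, hg⟩ := conj3 hn
  exact z_ne (eq_one_of_conj (hg ▸ h))

theorem conj_P27 {p : TitsGroup} (hp : p ∈ P27) (h1 : p ≠ 1) : ∃ g, p = g * tEl lz * g⁻¹ := by
  obtain ⟨q, rfl⟩ := hp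
  refine conj3 fun h => h1 ?_
  show nf3 _ _ _ _ _ _ = 1
  obtain ⟨hz, ha, hb, -⟩ := zab
  rw [nf3_mod ha hb hz, h.1, h.2.1, h.2.2]
  simp [nf3]

/-- The subgroup of order 25. -/
noncomputable def E25 : Subgroup TitsGroup := square5 eft.1 eft.2.1 eft.2.2.1

theorem card_E25 : Nat.card E25 = 25 := square5_card _ _ _ fun i j h => by
  by_contra hn
  obtain ⟨g, hg⟩ := conj5 hn
  exact e_ne (eq_one_of_conj (hg ▸ h))

theorem conj_E25 {p : TitsGroup} (hp : p ∈ E25) (h1 : p ≠ 1) : ∃ g, p = g * tEl le * g⁻¹ := by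
  obtain ⟨q, rfl⟩ := hp
  refine conj5 fun h => h1 ?_
  show tEl le ^ (q.1 : ℕ) * tEl lf ^ (q.2 : ℕ) = 1
  rw [pow_eq_pow_mod _ eft.1, pow_eq_pow_mod _ eft.2.1, h.1, h.2, pow_zero, pow_zero, one_mul]

theorem two_trans_chk : ((List.range 4240).all fun n =>
    !(decide (2 ≤ n) && (17971200 % (n * (n - 1)) == 0)) ||
      (decide (n < 27) || (n == 27 || (n == 40 || n == 65)))) = true := by
  decide +kernel

variable {Ω : Type*} [Finite Ω] [MulAction TitsGroup Ω]

theorem no_two_transitive [FaithfulSMul TitsGroup Ω] (hΩ : 3 ≤ Nat.card Ω)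
    (h2 : IsMultiplyPretransitive TitsGroup Ω 2) : False := by
  classical
  have : IsPretransitive TitsGroup Ω := by
    rw [← is_one_pretransitive_iff]
    refine isMultiplyPretransitive_of_le (n := 2) (by norm_num) ?_
    omega
  set n := Nat.card Ω with hn
  have hN : Nat.card TitsGroup = 17971200 := card_tits.trans (by norm_num)
  have hd := two_trans_dvd h2 (by omega)
  rw [← hn, hN] at hd
  have hlt : n < 4240 := by
    by_contra hc
    have := Nat.le_of_dvd (by norm_num) hd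
    have : 4240 * 4239 ≤ n * (n - 1) := Nat.mul_le_mul (by omega) (by omega)
    omega
  have hcases : n < 27 ∨ n = 27 ∨ n = 40 ∨ n = 65 := by
    have hc := two_trans_chk
    simp only [List.all_eq_true, List.mem_range, Bool.or_eq_true, Bool.not_eq_true', beq_iff_eq,
      Bool.and_eq_false_iff, decide_eq_true_eq, decide_eq_false_iff_not, beq_eq_false_iff_ne] at hc
    rcases hc n hlt with (h | h) | h
    · omega
    · exact absurd (Nat.mod_eq_zero_of_dvd hd) h
    · exact h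
  -- the two orbit counts
  set f3 := fx Ω (tEl lz) with hf3
  set f5 := fx Ω (tEl le) with hf5
  have h3 : 27 ∣ n + 26 * f3 := by
    have := dvd_fix_sum (Ω := Ω) P27 (f := f3) fun p hp h1 => by
      obtain ⟨g, rfl⟩ := conj_P27 hp h1
      exact fx_conj _ _
    rwa [card_P27] at this
  have h5 : 25 ∣ n + 24 * f5 := by
    have := dvd_fix_sum (Ω := Ω) E25 (f := f5) fun p hp h1 => by
      obtain ⟨g, rfl⟩ := conj_E25 hp h1
      exact fx_conj _ _
    rwa [card_E25] at this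
  have l3 : f3 < n := fx_lt z_ne
  have l5 : f5 < n := fx_lt e_ne
  obtain ⟨he, hf, hef, ht, ht1, ht2⟩ := eft
  have hE : ∀ i j : ℕ, tEl le ^ i * tEl lf ^ j ∈ E25 := fun i j =>
    ⟨(⟨_, Nat.mod_lt i (by norm_num)⟩, ⟨_, Nat.mod_lt j (by norm_num)⟩), by
      show tEl le ^ (i % 5) * tEl lf ^ (j % 5) = _
      rw [← pow_eq_pow_mod i he, ← pow_eq_pow_mod j hf]⟩
  rcases hcases with h | h | h | h
  · omega
  · -- twenty-seven points
    have hf30 : f3 = 0 := by omega
    have hf52 : f5 = 2 := by omega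
    have hp : IsPGroup 5 E25 := IsPGroup.of_card (n := 2) card_E25
    have : Fact (Nat.Prime 5) := ⟨by norm_num⟩
    have hmod := hp.card_modEq_card_fixedPoints Ω
    rw [← hn, h, Nat.ModEq] at hmod
    obtain ⟨⟨y, hy⟩⟩ : Nonempty (fixedPoints E25 Ω) := by
      by_contra hne
      rw [not_nonempty_iff] at hne
      rw [Nat.card_of_isEmpty] at hmod
      omega
    have hfixp : ∀ x : Ω, x ∈ fixedPoints E25 Ω ↔ tEl le • x = x ∧ tEl lf • x = x := by
      intro x
      refine ⟨fun hx => ⟨?_, ?_⟩, fun hx g => ?_⟩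
      · simpa [Subgroup.smul_def] using hx ⟨_, hE 1 0⟩
      · simpa [Subgroup.smul_def] using hx ⟨_, hE 0 1⟩
      · obtain ⟨q, hq⟩ := g.2
        have : (g : TitsGroup) ∈ stabilizer TitsGroup x := by
          rw [← hq]
          exact mul_mem (pow_mem (mem_stabilizer_iff.2 hx.1) _) (pow_mem (mem_stabilizer_iff.2 hx.2) _)
        exact this
    have hmap : ∀ x ∈ fixedPoints E25 Ω, tEl lt • x ∈ fixedPoints E25 Ω := by
      intro x hx
      have hx' := (hfixp x).1 hx
      have hs1 : tEl le ∈ stabilizer TitsGroup x := hx'.1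
      have hs2 : tEl lf ∈ stabilizer TitsGroup x := hx'.2
      rw [hfixp]
      constructor
      · have : ((tEl lt)⁻¹ * tEl le * tEl lt) • x = x := by
          rw [ht1]; exact mul_mem (pow_mem hs1 3) (pow_mem hs2 4)
        rw [mul_assoc, mul_smul, inv_smul_eq_iff, mul_smul] at this
        exact this
      · have : ((tEl lt)⁻¹ * tEl lf * tEl lt) • x = x := by
          rw [ht2]; exact mul_mem (pow_mem hs1 3) hs2
        rw [mul_assoc, mul_smul, inv_smul_eq_iff, mul_smul] at this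
        exact this
    have hsub : fixedPoints E25 Ω ⊆ fixedBy Ω (tEl le) := fun x hx => ((hfixp x).1 hx).1
    set s := tEl lt with hs
    have hno : s • y ≠ y := by
      intro e
      have hsne : s ≠ 1 := by
        intro e1
        rw [e1] at ht1
        simp only [inv_one, one_mul, mul_one] at ht1
        have e2 : tEl le ^ 2 * tEl lf ^ 4 = 1 := by
          have := congrArg (fun x => (tEl le)⁻¹ * x) ht1
          rw [inv_mul_cancel, pow_succ' _ 2, mul_assoc, inv_mul_cancel_left] at this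
          exact this.symm
        obtain ⟨g, hg⟩ := conj5 (i := 2) (j := 4) (by norm_num)
        exact e_ne (eq_one_of_conj (hg ▸ e2))
      obtain ⟨g, hg⟩ := lt_conj
      have : f3 ≠ 0 := by
        rw [hf3, ← fx_conj g, ← hg, fx, Nat.card_ne_zero]
        exact ⟨⟨⟨y, e⟩⟩, inferInstance⟩
      exact this hf30
    have h3' : s • s • s • y = y := by rw [← mul_smul, ← mul_smul, ← pow_two, ← pow_succ, ht, one_smul]
    have hno2 : s • s • y ≠ y := fun e => hno (by rwa [e] at h3')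
    have hno1 : s • s • y ≠ s • y := fun e => hno (smul_left_cancel s e)
    have hle : ({y, s • y, s • s • y} : Set Ω).ncard ≤ (fixedBy Ω (tEl le)).ncard := by
      refine Set.ncard_le_ncard ?_ (Set.toFinite _)
      rintro x (rfl | rfl | rfl)
      · exact hsub hy
      · exact hsub (hmap _ hy)
      · exact hsub (hmap _ (hmap _ hy))
    rw [Set.ncard_eq_three.2 ⟨y, s • y, s • s • y, Ne.symm hno, Ne.symm hno2, Ne.symm hno1, rfl⟩,
      ← Nat.card_coe_set_eq] at hle
    change 3 ≤ f5 at hle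
    omega
  all_goals
    have h15 : 15 ≤ f5 := by omega
    have hnofix : ∀ x : Ω, ¬(tEl le • x = x ∧ tEl lf • x = x) := by
      intro x hx
      have hle : E25 ≤ stabilizer TitsGroup x := by
        rintro _ ⟨q, rfl⟩
        exact mul_mem (pow_mem (mem_stabilizer_iff.2 hx.1) _) (pow_mem (mem_stabilizer_iff.2 hx.2) _)
      have h25 := Subgroup.card_dvd_of_le hle
      rw [card_E25] at h25
      obtain ⟨k, hk⟩ := h25
      have hc := (stabilizer TitsGroup x).card_mul_index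
      rw [index_stabilizer_of_transitive, ← hn, hN, hk, h] at hc
      omega
    let F : Fin 5 → Finset Ω := fun i =>
      (Set.toFinite (fixedBy Ω (tEl le * tEl lf ^ (i : ℕ)))).toFinset
    have hcardF : ∀ i, (F i).card = f5 := fun i => by
      obtain ⟨g, hg⟩ := conj5 (i := 1) (j := (i : ℕ)) (by norm_num)
      rw [pow_one] at hg
      rw [← Set.ncard_eq_toFinset_card, ← Nat.card_coe_set_eq, hg]
      exact fx_conj _ _
    have hdisj : ∀ i j : Fin 5, i < j → Disjoint (F i) (F j) := by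
      intro i j hij
      rw [Finset.disjoint_left]
      intro x hxi hxj
      simp only [F, Set.Finite.mem_toFinset, mem_fixedBy] at hxi hxj
      refine hnofix x ?_
      have hi' : tEl le * tEl lf ^ (i : ℕ) ∈ stabilizer TitsGroup x := hxi
      have hj' : tEl le * tEl lf ^ (j : ℕ) ∈ stabilizer TitsGroup x := hxj
      have hd : tEl lf ^ ((j : ℕ) - (i : ℕ)) ∈ stabilizer TitsGroup x := by
        have := mul_mem (inv_mem hi') hj'
        rwa [mul_inv_rev, mul_assoc, inv_mul_cancel_left, inv_mul_eq_iff_eq_mul.2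
          (pow_mul_pow_sub (tEl lf) (le_of_lt hij : (i : ℕ) ≤ j)).symm] at this
      obtain ⟨m, hm⟩ : ∃ m, m * ((j : ℕ) - (i : ℕ)) % 5 = 1 := by
        have : ∀ d, 0 < d → d < 5 → ∃ m, m * d % 5 = 1 := by
          intro d h0 h5
          interval_cases d
          · exact ⟨1, rfl⟩
          · exact ⟨3, rfl⟩
          · exact ⟨2, rfl⟩
          · exact ⟨4, rfl⟩
        exact this _ (by omega) (by omega)
      have hfs : tEl lf ∈ stabilizer TitsGroup x := by
        have := pow_mem hd m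
        rwa [← pow_mul, mul_comm, pow_eq_pow_mod _ hf, hm, pow_one] at this
      refine ⟨?_, hfs⟩
      have := mul_mem hi' (inv_mem (pow_mem hfs (i : ℕ)))
      rwa [mul_inv_cancel_right] at this
    have hsum : ∑ i, (F i).card ≤ n := by
      rw [← Finset.card_biUnion fun i _ j _ hij => by
        rcases lt_or_gt_of_ne hij with h | h
        · exact hdisj i j h
        · exact (hdisj j i h).symm]
      have := Fintype.ofFinite Ω
      rw [hn, Nat.card_eq_fintype_card]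
      exact Finset.card_le_univ _
    simp only [hcardF, Finset.sum_const, Finset.card_univ, Fintype.card_fin, smul_eq_mul] at hsum
    omega

end tits

end CfsgLib.Tits
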