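import Cfsg.Prelude.Def_KGroupFacts
import Cfsg.Agent.Lib.Tits.NoTwoTrans
import Cfsg.Agent.Lib.Tits.MultTable
import Cfsg.Agent.Lib.J2.MultLocal
import Cfsg.Agent.Lib.Schur.ThreeCard

/-!
The multiplier of the Tits group is trivial.
-/

set_option autoImplicit false
set_option maxRecDepth 100000
set_option linter.style.haveILetI false
set_option maxHeartbeats 1000000

open scoped commutatorElement

namespace CfsgLib.Tits.Mult

open Cfsg.Lie CfsgLib.Chev CfsgLib.Chev.F4Two CfsgLib.Schur CfsgLib.Schur.InvolLift CfsgLib.Tits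
open CfsgLib.Tits.Packed

/-- The generator of a position. -/
def gW (j : ℕ) : List (Fin 4) := genW.getD (min j 2) []

/-- The word in the basic involutions of a word in the three generators. -/
def flatW (w : List ℕ) : List (Fin 4) := (w.map gW).flatten

/-- The three generators, the last one repeated. -/
noncomputable def gS (j : ℕ) : TitsGroup := tEl (gW j)

theorem tEl_flatW : ∀ w, tEl (flatW w) = (w.map gS).prod
  | [] => by simp [flatW, tEl_nil]
  | j :: w => by
    rw [show flatW (j :: w) = gW j ++ flatW w from rfl, tEl_append, tEl_flatW w, List.map_cons,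
      List.prod_cons, gS]

/-- A word conjugate to one of the four involutions. -/
def conjW (w : List (Fin 4)) (r : Fin 4) (c : List (Fin 4)) : Bool := wEq w (c ++ [r] ++ c.reverse)

theorem conj_of {w c : List (Fin 4)} {r : Fin 4} (h : conjW w r c = true) :
    tEl c * tEl [r] = tEl w * tEl c := by
  rw [tEl_eq_of_wEq h, tEl_append, tEl_append, tEl_reverse, inv_mul_cancel_right]

theorem sq_base (r : Fin 4) : tEl [r] * tEl [r] = 1 := by
  rw [← tEl_append, tEl_eq (l := [r] ++ [r]) (m := []) (by simpa [tW] using gw_chk.2.2.2.2.1 r),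
    tEl_nil]

theorem sq_of_conj {G : Type*} [Group G] {x w c : G} (h : c * x = w * c) (hx : x * x = 1) :
    w * w = 1 := by
  rw [show w = c * x * c⁻¹ by rw [h, mul_inv_cancel_right],
    show c * x * c⁻¹ * (c * x * c⁻¹) = c * (x * x) * c⁻¹ by group, hx, mul_one, mul_inv_cancel]

attribute [local irreducible] tEl

/-- The checks on one triple. -/
def e8OK (e : List (Fin 4) × List (Fin 4) × List (Fin 4) × List (Fin 4 × List (Fin 4))) : Bool :=
  wEq (e.1 ++ e.2.1) (e.2.1 ++ e.1) && (wEq (e.1 ++ e.2.2.1) (e.2.2.1 ++ e.1) &&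
    (wEq (e.2.1 ++ e.2.2.1) (e.2.2.1 ++ e.2.1) &&
      (List.range 7).all fun i =>
        conjW ([e.1, e.2.1, e.2.2.1, e.1 ++ e.2.1, e.1 ++ e.2.2.1, e.2.1 ++ e.2.2.1,
          e.1 ++ e.2.1 ++ e.2.2.1].getD i []) (e.2.2.2.getD i (0, [])).1 (e.2.2.2.getD i (0, [])).2))

theorem e8_chk : e8OK eA = true ∧ e8OK eB = true ∧
    eA.2.2.2.map Prod.fst = [0, 0, 0, 0, 0, 0, 0] ∧ eB.2.2.2.map Prod.fst = [0, 2, 0, 0, 0, 0, 0] := by
  decide +kernel

section double

variable {E : Type} [Group E] {τ : E →* TitsGroup}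

theorem q_conj_base (D : Double τ) {w c : List (Fin 4)} {r : Fin 4} (h : conjW w r c = true) :
    tEl w * tEl w = 1 ∧ D.q (tEl w) = D.q (tEl [r]) :=
  ⟨sq_of_conj (x := tEl [r]) (c := tEl c) (conj_of h) (sq_base r), D.q_conj (conj_of h) (sq_base r)⟩

theorem seven_of (D : Double τ)
    {e : List (Fin 4) × List (Fin 4) × List (Fin 4) × List (Fin 4 × List (Fin 4))}
    (h : e8OK e = true) :
    let q := fun i => D.q (tEl [(e.2.2.2.getD i (0, [])).1])
    q 6 = q 3 * q 4 * q 5 * (q 0 * q 1 * q 2) := by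
  intro q
  simp only [e8OK, Bool.and_eq_true, List.all_eq_true, List.mem_range] at h
  obtain ⟨huv, huw, hvw, hc⟩ := h
  have k := fun i hi => q_conj_base D (hc i hi)
  obtain ⟨u2, qu⟩ := k 0 (by norm_num)
  obtain ⟨v2, qv⟩ := k 1 (by norm_num)
  obtain ⟨w2, qw⟩ := k 2 (by norm_num)
  obtain ⟨-, quv⟩ := k 3 (by norm_num)
  obtain ⟨-, quw⟩ := k 4 (by norm_num)
  obtain ⟨-, qvw⟩ := k 5 (by norm_num)
  obtain ⟨-, quvw⟩ := k 6 (by norm_num)
  simp only [List.getD_cons_zero, List.getD_cons_succ, tEl_append] at u2 qu v2 qv w2 qw quv quw qvw quvw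
  have key := D.q_seven u2 v2 w2 (by rw [← tEl_append, ← tEl_append, tEl_eq_of_wEq huv])
    (by rw [← tEl_append, ← tEl_append, tEl_eq_of_wEq huw])
    (by rw [← tEl_append, ← tEl_append, tEl_eq_of_wEq hvw])
  rw [quvw, quv, quw, qvw, qu, qv, qw] at key
  exact key

theorem q_sq (D : Double τ) (r : Fin 4) : D.q (tEl [r]) * D.q (tEl [r]) = 1 :=
  D.sq (D.q_mem_ker (sq_base r))

theorem q_base (D : Double τ) : D.q (tEl [0]) = 1 ∧ D.q (tEl [2]) = 1 := by
  obtain ⟨hA, hB, mA, mB⟩ := e8_chk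
  have eq0 : ∀ (e : List (Fin 4) × List (Fin 4) × List (Fin 4) × List (Fin 4 × List (Fin 4)))
      (L : List (Fin 4)) (i : ℕ), e.2.2.2.map Prod.fst = L → i < L.length →
      (e.2.2.2.getD i (0, [])).1 = L.getD i 0 := by
    rintro e L i rfl hi
    rw [List.length_map] at hi
    rw [List.getD_eq_getElem _ _ hi, List.getD_eq_getElem _ _ (by rwa [List.length_map]),
      List.getElem_map]
  have s0 := q_sq D 0
  have ha := seven_of D hA
  simp only [eq0 eA _ _ mA (by norm_num : (0 : ℕ) < 7), eq0 eA _ _ mA (by norm_num : (1 : ℕ) < 7),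
    eq0 eA _ _ mA (by norm_num : (2 : ℕ) < 7), eq0 eA _ _ mA (by norm_num : (3 : ℕ) < 7),
    eq0 eA _ _ mA (by norm_num : (4 : ℕ) < 7), eq0 eA _ _ mA (by norm_num : (5 : ℕ) < 7),
    eq0 eA _ _ mA (by norm_num : (6 : ℕ) < 7), List.getD_cons_zero, List.getD_cons_succ] at ha
  have h0 : D.q (tEl [0]) = 1 := by
    generalize D.q (tEl [0]) = q at s0 ha
    simpa [s0] using ha
  refine ⟨h0, ?_⟩
  have hb := seven_of D hB
  simp only [eq0 eB _ _ mB (by norm_num : (0 : ℕ) < 7), eq0 eB _ _ mB (by norm_num : (1 : ℕ) < 7),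
    eq0 eB _ _ mB (by norm_num : (2 : ℕ) < 7), eq0 eB _ _ mB (by norm_num : (3 : ℕ) < 7),
    eq0 eB _ _ mB (by norm_num : (4 : ℕ) < 7), eq0 eB _ _ mB (by norm_num : (5 : ℕ) < 7),
    eq0 eB _ _ mB (by norm_num : (6 : ℕ) < 7), List.getD_cons_zero, List.getD_cons_succ, h0,
    one_mul, mul_one] at hb
  exact hb.symm

end double

theorem gens_chk' : ((List.range 3).all fun j => conjW (gW j) 0 (genC.getD j [])) = true ∧
    (relC.all fun d => conjW (flatW d.1) d.2.1 d.2.2 && (d.2.1 == 0 || d.2.1 == 2)) = true ∧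
    tab.words = [[0, 1, 0, 1, 0, 1], [0, 2, 0, 2, 0, 2]] ++ relC.map (fun d => d.1 ++ d.1) ∧
    wEq (flatW [0, 1, 0, 1, 0, 1]) [] = true ∧ wEq (flatW [0, 2, 0, 2, 0, 2]) [] = true ∧
    (evalW (tW (flatW [0, 1])) (2 ^ 9) < 2 ^ 52) := by
  decide +kernel

theorem gW_two {j : ℕ} (h : 2 ≤ j) : gW j = gW 2 := by simp [gW, min_eq_right h]

/-! ### The order of the subgroup -/

theorem orb_cover : (reps12.all fun r => orbs.any fun p => p.1 == r) = true ∧
    (orbs.all fun p => eqP (orbWord p.1) (tW (flatW p.2) ++ (if odd4 p.1 then wX else []))) = true ∧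
    ((List.range 3).all fun j =>
      eqP (wX ++ tW (gW j)) (tW (flatW (genX.getD j [])) ++ wX) && decide (j < genX.length)) = true ∧
    eqP (wX ++ wX) (tW (flatW sqX)) = true ∧
    (orbs.all fun p => p.2.all fun j => decide (j < 3)) = true ∧
    (genX.all fun p => p.all fun j => decide (j < 3)) = true ∧
    (sqX.all fun j => decide (j < 3)) = true := by
  decide +kernel

/-- The subgroup generated by the three involutions. -/
noncomputable def U6 : Subgroup TitsGroup := Subgroup.closure {e | ∃ j, j < 3 ∧ e = gS j}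

theorem gS_mem {j : ℕ} (h : j < 3) : gS j ∈ U6 := Subgroup.subset_closure ⟨j, h, rfl⟩

theorem flatW_mem {w : List ℕ} (hw : ∀ j ∈ w, j < 3) : tEl (flatW w) ∈ U6 := by
  rw [tEl_flatW]
  refine Subgroup.list_prod_mem U6 fun x hx => ?_
  obtain ⟨j, hj, rfl⟩ := List.mem_map.1 hx
  exact gS_mem (hw j hj)

/-- The inclusion in the linear group. -/
noncomputable def inc : TitsGroup →* Matrix.GeneralLinearGroup chevF4.Idx (ZMod 2) :=
  G2.subtype.comp (commutator ↥G2).subtype

theorem inc_tEl (l : List (Fin 4)) : inc (tEl l) = Wd (tW l) := coe_tEl l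

theorem inc_gS (j : ℕ) : inc (gS j) = Wd (tW (gW j)) := inc_tEl _

theorem inc_injective : Function.Injective inc := fun _ _ h => Subtype.ext (Subtype.ext h)

/-- The image in the linear group. -/
noncomputable def U6m : Subgroup (Matrix.GeneralLinearGroup chevF4.Idx (ZMod 2)) := U6.map inc

theorem wd_mem {w : List ℕ} (hw : ∀ j ∈ w, j < 3) : Wd (tW (flatW w)) ∈ U6m :=
  ⟨tEl (flatW w), flatW_mem hw, inc_tEl _⟩

theorem gen_conj_x {j : ℕ} (hj : j < 3) : Wd wX * inc (gS j) * (Wd wX)⁻¹ ∈ U6m := by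
  obtain ⟨-, -, hx, -, -, hg, -⟩ := orb_cover
  simp only [List.all_eq_true, List.mem_range, Bool.and_eq_true, decide_eq_true_eq] at hx hg
  obtain ⟨e, hl⟩ := hx j hj
  have e' := Wd_eq_of_eqP e
  rw [Wd_append, Wd_append] at e'
  rw [inc_gS, e', mul_inv_cancel_right]
  exact wd_mem (w := genX.getD j []) (hg _ (by
    rw [List.getD_eq_getElem _ _ hl]; exact List.getElem_mem hl))

theorem map_closure_conj {G H : Type*} [Group G] [Group H] (f : G →* H) (S : Set G) (x : H)
    (hS : ∀ s ∈ S, x * f s * x⁻¹ ∈ (Subgroup.closure S).map f) {u : H}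
    (hu : u ∈ (Subgroup.closure S).map f) : x * u * x⁻¹ ∈ (Subgroup.closure S).map f := by
  obtain ⟨v, hv, rfl⟩ := hu
  induction hv using Subgroup.closure_induction with
  | mem s hs => exact hS s hs
  | one => simp
  | mul a b _ _ iha ihb =>
    have := mul_mem iha ihb
    rwa [show x * f a * x⁻¹ * (x * f b * x⁻¹) = x * f (a * b) * x⁻¹ by rw [map_mul]; group] at this
  | inv a _ iha =>
    have := inv_mem iha
    rwa [show (x * f a * x⁻¹)⁻¹ = x * f a⁻¹ * x⁻¹ by rw [map_inv]; group] at this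

theorem conj_x_mem {u : Matrix.GeneralLinearGroup chevF4.Idx (ZMod 2)} (hu : u ∈ U6m) :
    Wd wX * u * (Wd wX)⁻¹ ∈ U6m :=
  map_closure_conj inc {e | ∃ j, j < 3 ∧ e = gS j} (Wd wX)
    (fun _ ⟨_, hj, he⟩ => he.symm ▸ gen_conj_x hj) hu

/-- Membership up to a power of the element of order four. -/
def Near (g : Matrix.GeneralLinearGroup chevF4.Idx (ZMod 2)) : Prop := g ∈ U6m ∨ g * (Wd wX)⁻¹ ∈ U6m

theorem near_mul {g h : Matrix.GeneralLinearGroup chevF4.Idx (ZMod 2)} (hg : Near g) (hh : Near h) :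
    Near (g * h) := by
  set X := Wd wX with hX
  have hxx : X * X ∈ U6m := by
    rw [hX, ← Wd_append, Wd_eq_of_eqP orb_cover.2.2.2.1]
    have := orb_cover.2.2.2.2.2.2
    simp only [List.all_eq_true, decide_eq_true_eq] at this
    exact wd_mem this
  rcases hg with hg | hg <;> rcases hh with hh | hh
  · exact Or.inl (mul_mem hg hh)
  · exact Or.inr (by rw [mul_assoc]; exact mul_mem hg hh)
  · refine Or.inr ?_
    have := mul_mem hg (conj_x_mem hh)
    rwa [show g * X⁻¹ * (X * h * X⁻¹) = g * h * X⁻¹ by group] at this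
  · refine Or.inl ?_
    have := mul_mem (mul_mem hg (conj_x_mem hh)) hxx
    rwa [show g * X⁻¹ * (X * (h * X⁻¹) * X⁻¹) * (X * X) = g * h by group] at this

theorem near_cands : ∀ L : List ℕ, (∀ r ∈ L, r ∈ reps12) → ∀ c ∈ cands L, Near (Wd c.1) := by
  intro L
  induction L with
  | nil =>
    intro _ c hc
    simp only [cands, List.mem_singleton] at hc
    subst hc
    exact Or.inl (by rw [Wd_nil]; exact one_mem _)
  | cons r L ih =>
    intro hL c hc
    simp only [cands, List.mem_append, List.mem_map] at hc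
    rcases hc with hc | ⟨d, hd, rfl⟩
    · exact ih (fun s hs => hL s (List.mem_cons_of_mem _ hs)) c hc
    · show Near (Wd (orbWord r ++ d.1))
      rw [Wd_append]
      refine near_mul ?_ (ih (fun s hs => hL s (List.mem_cons_of_mem _ hs)) d hd)
      obtain ⟨h1, h2, -, -, h5, -, -⟩ := orb_cover
      simp only [List.all_eq_true, List.any_eq_true, beq_iff_eq, decide_eq_true_eq] at h1 h2 h5
      obtain ⟨p, hp, rfl⟩ := h1 r (hL r List.mem_cons_self)
      have e := Wd_eq_of_eqP (h2 p hp)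
      rw [Wd_append] at e
      rcases Bool.eq_false_or_eq_true (odd4 p.1) with hb | hb <;> rw [hb] at e
      · refine Or.inr ?_
        rw [e, if_pos rfl, mul_inv_cancel_right]
        exact wd_mem (h5 p hp)
      · refine Or.inl ?_
        rw [e, if_neg Bool.false_ne_true, Wd_nil, mul_one]
        exact wd_mem (h5 p hp)

/-- The subgroup contains the Sylow subgroup of the commutator subgroup. -/
theorem sylow_le : (U2 ⊓ commutator ↥G2).subgroupOf (commutator ↥G2) ≤ U6 := by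
  intro g hg
  rw [Subgroup.mem_subgroupOf] at hg
  obtain ⟨c, hc, he⟩ := exists_cand hg.1
  rcases near_cands reps12 (fun _ h => h) c hc with h | h
  · obtain ⟨u, hu, e⟩ := h
    rw [← he] at e
    obtain rfl : u = g := inc_injective e
    exact hu
  · exfalso
    obtain ⟨u, hu, e⟩ := h
    rw [← he] at e
    have e' : ((u : ↥G2)) = (g : ↥G2) * xx⁻¹ := Subtype.ext e
    have h1 : (g : ↥G2) * xx⁻¹ ∈ commutator ↥G2 := e' ▸ u.2
    exact xx_not_mem (inv_mem_iff.1 ((Subgroup.mul_mem_cancel_left _ g.2).1 h1))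

theorem three_dvd : 3 ∣ Nat.card U6 := by
  have h3 : (gS 0 * gS 1) ^ 3 = 1 := by
    have := tEl_eq_of_wEq gens_chk'.2.2.2.1
    rw [tEl_flatW, tEl_nil] at this
    rw [← this]
    simp [pow_succ, mul_assoc]
  have hne : gS 0 * gS 1 ≠ 1 := by
    rw [show gS 0 * gS 1 = tEl (flatW [0, 1]) by rw [tEl_flatW]; simp]
    exact tEl_ne_one_of (v := 2 ^ 9) (by norm_num) (by decide +kernel) gens_chk'.2.2.2.2.2
      (by decide +kernel)
  haveI : Fact (Nat.Prime 3) := ⟨Nat.prime_three⟩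
  have hm : gS 0 * gS 1 ∈ U6 := mul_mem (gS_mem (by norm_num)) (gS_mem (by norm_num))
  rw [← orderOf_eq_prime h3 hne, ← Subgroup.orderOf_mk _ hm]
  exact orderOf_dvd_natCard _

theorem card_U6 : 6144 ≤ Nat.card U6 := by
  set K : Subgroup ↥G2 := U2 ⊓ commutator ↥G2 with hK
  have h1 : Nat.card K * (commutator ↥G2).relIndex U2 = 2 ^ 12 := by
    have e := Subgroup.relIndex_mul_relIndex ⊥ K U2 bot_le (hK ▸ inf_le_left)
    rw [Subgroup.relIndex_bot_left, Subgroup.relIndex_bot_left, hK, Subgroup.inf_relIndex_left,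
      card_U2] at e
    exact e
  have h2 : (commutator ↥G2).relIndex U2 ∣ 2 := by
    have e := Subgroup.relIndex_dvd_index_of_normal (commutator ↥G2) U2
    rwa [index_commutator] at e
  have h3 : 2048 ∣ Nat.card K := by
    rcases (Nat.dvd_prime Nat.prime_two).1 h2 with h | h <;> rw [h] at h1
    · exact ⟨2, by omega⟩
    · exact ⟨1, by omega⟩
  have h4 : Nat.card (K.subgroupOf (commutator ↥G2)) = Nat.card K :=
    Nat.card_congr (Subgroup.subgroupOfEquivOfLe inf_le_right).toEquiv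
  have h5 := Nat.Coprime.mul_dvd_of_dvd_of_dvd (by norm_num : Nat.Coprime 2048 3)
    (h3.trans (h4 ▸ Subgroup.card_dvd_of_le sylow_le)) three_dvd
  have hfin : Finite TitsGroup := Nat.finite_of_card_ne_zero (by rw [card_tits]; norm_num)
  exact Nat.le_of_dvd Nat.card_pos h5

theorem no_double_tits (E : Type) [Group E] [Finite E] (τ : E →* TitsGroup)
    (hτ : Cfsg.IsStemExtension τ) (h2 : Nat.card τ.ker = 2) : False := by
  have hfin : Finite TitsGroup := Nat.finite_of_card_ne_zero (by rw [card_tits]; norm_num)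
  have D := double_of_card_two hτ h2
  obtain ⟨q0, q2⟩ := q_base D
  obtain ⟨hg, hr, hwords, t1, t2, -⟩ := gens_chk'
  simp only [List.all_eq_true, List.mem_range] at hg
  have hgen : ∀ j, j < 3 → gS j * gS j = 1 ∧ SqOne τ (gS j) := fun j hj => by
    obtain ⟨a, b⟩ := q_conj_base D (hg j hj)
    exact ⟨a, D.sqOne_iff.2 (b.trans q0)⟩
  refine WideTab.no_double hτ h2 tab [1, 2] gS tab_ok hgen ?_ ?_ (fun U hU => ?_) ?_
  · intro w hw
    rw [hwords, List.mem_append, List.mem_map] at hw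
    rcases hw with hw | ⟨d, hd, rfl⟩
    · simp only [List.mem_cons, List.not_mem_nil, or_false] at hw
      rcases hw with rfl | rfl
      · exact Or.inr ⟨1, by simp, rfl⟩
      · exact Or.inr ⟨2, by simp, rfl⟩
    · refine Or.inl ⟨d.1, rfl, ?_⟩
      simp only [List.all_eq_true, Bool.and_eq_true, Bool.or_eq_true, beq_iff_eq] at hr
      obtain ⟨hc, hb⟩ := hr d hd
      obtain ⟨a, b⟩ := q_conj_base D hc
      rw [← tEl_flatW]
      refine ⟨a, D.sqOne_iff.2 (b.trans ?_)⟩
      rcases hb with h | h <;> rw [h]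
      · exact q0
      · exact q2
  · intro j hj
    simp only [List.mem_cons, List.not_mem_nil, or_false] at hj
    rcases hj with rfl | rfl
    · refine ⟨one_ne_zero, ?_⟩
      have := tEl_eq_of_wEq t1
      rw [tEl_flatW, tEl_nil] at this
      rw [← this]
      simp [pow_succ, mul_assoc]
    · refine ⟨two_ne_zero, ?_⟩
      have := tEl_eq_of_wEq t2
      rw [tEl_flatW, tEl_nil] at this
      rw [← this]
      simp [pow_succ, mul_assoc]
  · subst hU
    exact card_U6
  · intro m hm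
    rw [card_tits] at hm
    change 6144 * m = _ at hm
    omega

/-! ### The odd primes -/

theorem odd_chk : wEq (rep 3 (lb ++ lz)) [] = true ∧
    wEq ((lb ++ lz) ++ la ++ rep 2 (lb ++ lz) ++ rep 2 la) lz = true ∧
    wEq (lz ++ (lb ++ lz)) ((lb ++ lz) ++ lz) = true ∧
    wEq (t3 ++ (lb ++ lz) ++ t3.reverse) (rep 2 (lb ++ lz)) = true ∧
    wEq (t3 ++ la ++ t3.reverse) (rep 2 la) = true ∧
    wEq (t5 ++ le ++ t5.reverse) (rep 4 le) = true ∧
    wEq (t5 ++ lf ++ t5.reverse) lf = true := by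
  decide +kernel

theorem conj_word {t w m : List (Fin 4)} (h : wEq (t ++ w ++ t.reverse) m = true) :
    tEl t * tEl w * (tEl t)⁻¹ = tEl m := by
  rw [← tEl_reverse, ← tEl_append, ← tEl_append, tEl_eq_of_wEq h]

theorem five_local {G : Type} [Group G] [Finite G] {x y h : G} (hy : y ^ 5 = 1) (hxy : x * y = y * x)
    (hhx : h * x * h⁻¹ = x⁻¹) (hhy : h * y * h⁻¹ = y)
    (h25 : 25 ∣ Nat.card (Subgroup.closure ({x, y} : Set G))) (hG : ¬ 125 ∣ Nat.card G) :
    ∃ U : Subgroup G, ¬ 5 ∣ U.index ∧ ∀ (Γ : Type) [Group Γ] [Finite Γ] (σ : Γ →* G),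
      Function.Surjective σ → σ.ker ≤ Subgroup.center Γ → ∀ z ∈ σ.ker,
        z ∈ ⁅U.comap σ, U.comap σ⁆ → z ^ 5 = 1 → z = 1 := by
  refine ⟨Subgroup.closure {x, y}, fun hi => hG ?_, fun Γ _ _ σ hσ hc w hw hwd _ => ?_⟩
  · have := mul_dvd_mul h25 hi
    rwa [Subgroup.card_mul_index] at this
  · rw [CfsgLib.J2.Mult.preimage_commutator_square hσ hc (p := 5) (by decide) hy hxy hhx hhy,
      Subgroup.mem_bot] at hwd
    exact hwd

theorem inv_eq_pow {G : Type*} [Group G] {x : G} {n : ℕ} (h : x ^ (n + 1) = 1) : x⁻¹ = x ^ n :=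
  inv_eq_of_mul_eq_one_right (by rw [← pow_succ', h])

theorem square5_le {G : Type*} [Group G] {e f : G} (he : e ^ 5 = 1) (hf : f ^ 5 = 1)
    (hef : Commute e f) : square5 he hf hef ≤ Subgroup.closure {e, f} := by
  intro g hg
  obtain ⟨q, hq⟩ := hg
  rw [← hq]
  have h1 : e ∈ Subgroup.closure {e, f} := Subgroup.subset_closure (Set.mem_insert _ _)
  have h2 : f ∈ Subgroup.closure {e, f} :=
    Subgroup.subset_closure (Set.mem_insert_of_mem _ (Set.mem_singleton _))
  exact Subgroup.mul_mem _ (Subgroup.pow_mem _ h1 _) (Subgroup.pow_mem _ h2 _)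

theorem e25_le : 25 ∣ Nat.card (Subgroup.closure ({tEl le, tEl lf} : Set TitsGroup)) := by
  have hle : E25 ≤ Subgroup.closure {tEl le, tEl lf} := square5_le eft.1 eft.2.1 eft.2.2.1
  exact card_E25 ▸ Subgroup.card_dvd_of_le hle

theorem not_dvd_125 : ¬ 125 ∣ Nat.card TitsGroup := fun h => by
  rw [card_tits] at h
  norm_num at h

theorem te5 : tEl t5 * tEl le * (tEl t5)⁻¹ = (tEl le)⁻¹ :=
  (conj_word odd_chk.2.2.2.2.2.1).trans ((tEl_rep 4 le).trans (inv_eq_pow (n := 4) eft.1).symm)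

theorem five_tits : ∃ U : Subgroup TitsGroup, ¬ 5 ∣ U.index ∧
    ∀ (Γ : Type) [Group Γ] [Finite Γ] (σ : Γ →* TitsGroup), Function.Surjective σ →
      σ.ker ≤ Subgroup.center Γ → ∀ z ∈ σ.ker, z ∈ ⁅U.comap σ, U.comap σ⁆ → z ^ 5 = 1 → z = 1 := by
  have : Finite TitsGroup := Nat.finite_of_card_ne_zero (by rw [card_tits]; norm_num)
  exact five_local (G := TitsGroup) (x := tEl le) (y := tEl lf) (h := tEl t5) eft.2.1 eft.2.2.1.eq
    te5 (conj_word odd_chk.2.2.2.2.2.2) e25_le not_dvd_125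

theorem odd_local (ℓ : ℕ) (hℓ : ℓ.Prime) (h2 : ℓ ≠ 2) : ∃ U : Subgroup TitsGroup, ¬ ℓ ∣ U.index ∧
    ∀ (Γ : Type) [Group Γ] [Finite Γ] (σ : Γ →* TitsGroup), Function.Surjective σ →
      σ.ker ≤ Subgroup.center Γ → ∀ z ∈ σ.ker, z ∈ ⁅U.comap σ, U.comap σ⁆ → z ^ ℓ = 1 → z = 1 := by
  haveI := Fact.mk hℓ
  have hfin : Finite TitsGroup := Nat.finite_of_card_ne_zero (by rw [card_tits]; norm_num)
  obtain ⟨c1, c2, c3, c4, c5, c6, c7⟩ := odd_chk
  by_cases h3 : ℓ = 3
  · subst h3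
    obtain ⟨hz, ha, hb, hza, hzb, hba⟩ := zab
    set z := tEl lz with hzdef
    set x := tEl (lb ++ lz) with hxdef
    set y := tEl la with hydef
    have hx : x ^ 3 = 1 := by rw [hxdef, ← tEl_rep, tEl_eq_of_wEq c1, tEl_nil]
    have hcm : ⁅x, y⁆ = z := by
      have e := tEl_eq_of_wEq c2
      rw [tEl_append, tEl_append, tEl_append, tEl_rep, tEl_rep] at e
      rw [commutatorElement_def, inv_eq_pow (n := 2) hx, inv_eq_pow (n := 2) ha]
      exact e
    have hcx : x * ⁅x, y⁆ = ⁅x, y⁆ * x := by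
      have e : Commute z x := by
        show z * x = x * z
        rw [hzdef, hxdef, ← tEl_append, ← tEl_append, tEl_eq_of_wEq c3]
      rw [hcm]; exact e.eq.symm
    have hcy : y * ⁅x, y⁆ = ⁅x, y⁆ * y := by rw [hcm]; exact hza.eq.symm
    have hne : ⁅x, y⁆ ≠ 1 := hcm ▸ z_ne
    have tx : tEl t3 * x * (tEl t3)⁻¹ = x⁻¹ := by
      rw [inv_eq_pow (n := 2) hx, hxdef, ← tEl_reverse, ← tEl_append, ← tEl_append, ← tEl_rep,
        tEl_eq_of_wEq c4]
    have ty : tEl t3 * y * (tEl t3)⁻¹ = y⁻¹ := by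
      rw [inv_eq_pow (n := 2) ha, hydef, ← tEl_reverse, ← tEl_append, ← tEl_append, ← tEl_rep,
        tEl_eq_of_wEq c5]
    refine ⟨Subgroup.closure {x, y}, fun hi => ?_, fun Γ _ _ σ hσ hc w hw hwd _ =>
      CfsgLib.J2.Mult.preimage_commutator_extraThree hσ hc hx ha hcx hcy hne tx ty hw hwd⟩
    have hc3 : ⁅x, y⁆ ^ 3 = 1 := by rw [hcm, hz]
    have := mul_dvd_mul (three_pow_three_dvd_closure hx ha hcx hcy hc3 hne) hi
    rw [Subgroup.card_mul_index, card_tits] at this
    norm_num at this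
  by_cases h5 : ℓ = 5
  · subst h5
    exact five_tits
  obtain ⟨P⟩ : Nonempty (Sylow ℓ TitsGroup) := inferInstance
  refine ⟨P, Sylow.not_dvd_index _, fun Γ _ _ σ hσ hc w hw hwd _ => ?_⟩
  have hP := P.card_eq_multiplicity
  have hsq : ¬ ℓ ^ 2 ∣ Nat.card TitsGroup := by
    intro hd
    rw [card_tits] at hd
    have h1 : ℓ ∣ 2 ^ 11 * 3 ^ 3 * 5 ^ 2 * 13 := (dvd_pow_self ℓ two_ne_zero).trans hd
    simp only [Nat.Prime.dvd_mul hℓ] at h1
    rcases h1 with ((h | h) | h) | h
    · exact h2 ((Nat.prime_dvd_prime_iff_eq hℓ Nat.prime_two).1 (hℓ.dvd_of_dvd_pow h))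
    · exact h3 ((Nat.prime_dvd_prime_iff_eq hℓ Nat.prime_three).1 (hℓ.dvd_of_dvd_pow h))
    · exact h5 ((Nat.prime_dvd_prime_iff_eq hℓ (by norm_num)).1 (hℓ.dvd_of_dvd_pow h))
    · have := (Nat.prime_dvd_prime_iff_eq hℓ (by norm_num)).1 h
      subst this
      norm_num at hd
  have hcyc : IsCyclic (P : Subgroup TitsGroup) := by
    rcases Nat.lt_or_ge ((Nat.card TitsGroup).factorization ℓ) 2 with hlt | hge
    · interval_cases hf : (Nat.card TitsGroup).factorization ℓ
      · rw [pow_zero] at hP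
        have : Subsingleton (P : Subgroup TitsGroup) := (Nat.card_eq_one_iff_unique.1 hP).1
        exact isCyclic_of_subsingleton
      · rw [pow_one] at hP
        exact isCyclic_of_prime_card hP
    · exact absurd ((pow_dvd_pow ℓ hge).trans (Nat.ordProj_dvd _ ℓ)) hsq
  rw [preimage_commutator_eq_bot_of_isCyclic σ hc] at hwd
  exact Subgroup.mem_bot.1 hwd

theorem multiplier_tits : Cfsg.HasCyclicSchurMultiplier TitsGroup 1 := by
  have hfin : Finite TitsGroup := Nat.finite_of_card_ne_zero (by rw [card_tits]; norm_num)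
  exact trivial_multiplier_of_local_two odd_local no_double_tits

end CfsgLib.Tits.Mult
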