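import Mathlib
import Cfsg.Agent.Lib.Schur.InvolutionLift

/-!
Certified coset tables for groups generated by involutions with up to 8192 points: relators and a
sequence of deductions bound the generated group, edge by edge.
-/

set_option autoImplicit false

namespace CfsgLib.Tits.WideTab

/-- the data: packed tables of the left actions, a spanning tree, relators and deductions -/
structure Tab where
  /-- number of generators -/
  k : ℕ
  /-- number of points -/
  N : ℕ
  /-- packed action of each generator -/
  table : List ℕ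
  /-- generator and parent of the points after the first -/
  tree : List (ℕ × ℕ)
  /-- relators -/
  words : List (List ℕ)
  /-- relator, start, position of the unknown edge -/
  cert : List (ℕ × ℕ × ℕ)

namespace Tab

variable (T : Tab)

/-- action of a generator -/
def tab (j i : ℕ) : ℕ := (T.table.getD j 0 >>> (13 * i)) % 8192

/-- a known edge -/
def knows (K j i : ℕ) : Bool := decide (j < 8) && K.testBit (8 * i + j)

/-- add an edge in both directions -/
def learn (K j i : ℕ) : ℕ := K ||| 2 ^ (8 * i + j) ||| 2 ^ (8 * T.tab j i + j)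

/-- walk a word from the right along known edges -/
def walk (K : ℕ) : List ℕ → ℕ → Option ℕ
  | [], x => some x
  | j :: w, x =>
    match walk K w x with
    | none => none
    | some y => if knows K j y then some (T.tab j y) else none

/-- the edges of the tree -/
def treeKnown : List (ℕ × ℕ) → ℕ → ℕ → Option ℕ
  | [], _, K => some K
  | (j, i) :: l, t, K =>
    if decide (j < T.k) && decide (j < 8) && decide (i < t) && T.tab j i == t && T.tab j t == i then
      treeKnown l (t + 1) (T.learn K j i)
    else none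

/-- one deduction -/
def step (K : ℕ) (c : ℕ × ℕ × ℕ) : Option ℕ :=
  let w := T.words.getD c.1 []
  match T.walk K (w.drop (c.2.2 + 1)) c.2.1 with
  | none => none
  | some x =>
    let j := w.getD c.2.2 0
    if decide (c.2.2 < w.length) && decide (c.1 < T.words.length) && decide (j < T.k) &&
        decide (j < 8) && T.tab j (T.tab j x) == x &&
        T.walk K (w.take c.2.2) (T.tab j x) == some c.2.1 then
      some (T.learn K j x)
    else none

/-- all deductions -/
def run : List (ℕ × ℕ × ℕ) → ℕ → Option ℕ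
  | [], K => some K
  | c :: cs, K =>
    match T.step K c with
    | none => none
    | some K' => run cs K'

/-- every edge becomes known -/
def ok : Bool :=
  decide (0 < T.N) && decide (T.k ≤ 8) && decide (T.tree.length + 1 = T.N) &&
  match T.treeKnown T.tree 1 0 with
  | none => false
  | some K =>
    match T.run T.cert K with
    | none => false
    | some K' => (List.range T.k).all fun j => (List.range T.N).all fun i =>
        knows K' j i && decide (T.tab j i < T.N)

variable {E : Type*} [Group E] (g : ℕ → E)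

/-- the element of a point -/
def phi (t : ℕ) : E :=
  if 0 < t ∧ (T.tree.getD (t - 1) (0, 0)).2 < t then
    g (T.tree.getD (t - 1) (0, 0)).1 * phi (T.tree.getD (t - 1) (0, 0)).2
  else 1
termination_by t
decreasing_by exact (‹0 < t ∧ _›).2

theorem phi_zero : T.phi g 0 = 1 := by
  rw [phi]; simp

/-- the known edges are true -/
def Good (K : ℕ) : Prop :=
  ∀ j i, j < 8 → K.testBit (8 * i + j) = true → g j * T.phi g i = T.phi g (T.tab j i)

variable {T g}

theorem good_learn {K j i : ℕ} (hK : T.Good g K) (hj : j < 8) (hsq : g j * g j = 1)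
    (hback : T.tab j (T.tab j i) = i) (he : g j * T.phi g i = T.phi g (T.tab j i)) :
    T.Good g (T.learn K j i) := by
  intro j' i' hj' hb
  rw [learn, Nat.testBit_or, Nat.testBit_or, Nat.testBit_two_pow, Nat.testBit_two_pow,
    Bool.or_eq_true, Bool.or_eq_true, decide_eq_true_eq, decide_eq_true_eq] at hb
  rcases hb with (hb | hb) | hb
  · exact hK j' i' hj' hb
  · obtain ⟨rfl, rfl⟩ : j = j' ∧ i = i' := by omega
    exact he
  · obtain ⟨rfl, rfl⟩ : j = j' ∧ T.tab j i = i' := by omega
    rw [hback, ← he, ← mul_assoc, hsq, one_mul]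

theorem walk_eq {K : ℕ} (hK : T.Good g K) : ∀ (w : List ℕ) (x y : ℕ), T.walk K w x = some y →
    (w.map g).prod * T.phi g x = T.phi g y := by
  intro w
  induction w with
  | nil =>
    intro x y h
    rw [walk, Option.some.injEq] at h
    rw [h, List.map_nil, List.prod_nil, one_mul]
  | cons j w ih =>
    intro x y h
    rw [walk] at h
    rcases hw : T.walk K w x with _ | z
    · rw [hw] at h; simp at h
    · rw [hw] at h
      simp only [knows, Bool.and_eq_true, decide_eq_true_eq] at h
      split_ifs at h with hk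
      · rw [Option.some.injEq] at h
        rw [List.map_cons, List.prod_cons, mul_assoc, ih x z hw, hK j z hk.1 hk.2, h]

theorem good_treeKnown (hsq : ∀ j, j < T.k → g j * g j = 1) :
    ∀ (l : List (ℕ × ℕ)) (t K K' : ℕ), 0 < t →
      (∀ s, s < l.length → T.tree.getD (t - 1 + s) (0, 0) = l.getD s (0, 0)) →
      T.Good g K → T.treeKnown l t K = some K' → T.Good g K' := by
  intro l
  induction l with
  | nil => intro t K K' _ _ hK h; rw [treeKnown, Option.some.injEq] at h; exact h ▸ hK
  | cons p l ih =>
    obtain ⟨j, i⟩ := p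
    intro t K K' ht hl hK h
    rw [treeKnown] at h
    split_ifs at h with hc
    · simp only [Bool.and_eq_true, decide_eq_true_eq, beq_iff_eq] at hc
      obtain ⟨⟨⟨⟨hjk, hj8⟩, hit⟩, he⟩, hb⟩ := hc
      refine ih (t + 1) _ K' (by omega) (fun s hs => ?_) ?_ h
      · have := hl (s + 1) (by simpa using hs)
        rw [List.getD_cons_succ] at this
        rwa [show t + 1 - 1 + s = t - 1 + (s + 1) by omega]
      · refine good_learn hK hj8 (hsq j hjk) (by rw [he, hb]) ?_
        have h0 := hl 0 (by simp)
        rw [List.getD_cons_zero, add_zero] at h0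
        rw [he]
        conv_rhs => rw [phi]
        rw [h0, if_pos ⟨ht, hit⟩]

theorem good_step (hsq : ∀ j, j < T.k → g j * g j = 1) (hw : ∀ w ∈ T.words, (w.map g).prod = 1)
    {K K' : ℕ} {c : ℕ × ℕ × ℕ} (hK : T.Good g K) (h : T.step K c = some K') : T.Good g K' := by
  unfold step at h
  simp only at h
  set w := T.words.getD c.1 [] with hwdef
  rcases hx : T.walk K (w.drop (c.2.2 + 1)) c.2.1 with _ | x
  · rw [hx] at h; simp at h
  · rw [hx] at h
    simp only at h
    split_ifs at h with hc
    · simp only [Bool.and_eq_true, decide_eq_true_eq, beq_iff_eq] at hc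
      obtain ⟨⟨⟨⟨⟨hp, hlen⟩, hjk⟩, hj8⟩, hback⟩, hA⟩ := hc
      rw [Option.some.injEq] at h
      rw [← h]
      refine good_learn hK hj8 (hsq _ hjk) hback ?_
      have e1 := walk_eq hK _ _ _ hx
      have e2 := walk_eq hK _ _ _ hA
      have hmem : w ∈ T.words := by
        rw [hwdef, List.getD_eq_getElem?_getD, List.getElem?_eq_getElem hlen]
        exact List.getElem_mem hlen
      have h1 := hw w hmem
      have hsplit : w = w.take c.2.2 ++ w.getD c.2.2 0 :: w.drop (c.2.2 + 1) := by
        rw [List.getD_eq_getElem?_getD, List.getElem?_eq_getElem hp, Option.getD_some,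
          ← List.drop_eq_getElem_cons hp, List.take_append_drop]
      rw [hsplit, List.map_append, List.prod_append, List.map_cons, List.prod_cons] at h1
      refine mul_left_cancel (a := ((w.take c.2.2).map g).prod) ?_
      rw [e2, ← e1, ← mul_assoc (g (w.getD c.2.2 0)), ← mul_assoc, h1, one_mul]

theorem good_run (hsq : ∀ j, j < T.k → g j * g j = 1) (hw : ∀ w ∈ T.words, (w.map g).prod = 1) :
    ∀ (cs : List (ℕ × ℕ × ℕ)) (K K' : ℕ), T.Good g K → T.run cs K = some K' → T.Good g K' := by
  intro cs
  induction cs with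
  | nil => intro K K' hK h; rw [run, Option.some.injEq] at h; exact h ▸ hK
  | cons c cs ih =>
    intro K K' hK h
    rw [run] at h
    rcases hs : T.step K c with _ | K1
    · rw [hs] at h; simp at h
    · rw [hs] at h; exact ih K1 K' (good_step hsq hw hK hs) h

/-- Left multiplication by a generator permutes the points as the table says. -/
theorem mul_phi (hok : T.ok = true) (hsq : ∀ j, j < T.k → g j * g j = 1)
    (hw : ∀ w ∈ T.words, (w.map g).prod = 1) {j i : ℕ} (hj : j < T.k) (hi : i < T.N) :
    g j * T.phi g i = T.phi g (T.tab j i) ∧ T.tab j i < T.N := by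
  simp only [ok, Bool.and_eq_true, decide_eq_true_eq] at hok
  obtain ⟨⟨⟨-, hk8⟩, -⟩, hok⟩ := hok
  rcases hT : T.treeKnown T.tree 1 0 with _ | K
  · rw [hT] at hok; simp at hok
  · rw [hT] at hok
    simp only at hok
    rcases hR : T.run T.cert K with _ | K'
    · rw [hR] at hok; simp at hok
    · rw [hR] at hok
      simp only [List.all_eq_true, List.mem_range, Bool.and_eq_true, decide_eq_true_eq, knows] at hok
      obtain ⟨⟨hj8, hb⟩, hlt⟩ := hok j hj i hi
      have h0 : T.Good g 0 := fun _ _ _ hb => by simp at hb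
      have hgK := good_treeKnown hsq T.tree 1 0 K one_pos
        (fun s _ => by rw [show 1 - 1 + s = s by omega]) h0 hT
      exact ⟨good_run hsq hw _ K K' hgK hR j i hj8 hb, hlt⟩

/-- The generated group consists of the points. -/
theorem exists_eq_phi (hok : T.ok = true) (hsq : ∀ j, j < T.k → g j * g j = 1)
    (hw : ∀ w ∈ T.words, (w.map g).prod = 1) {x : E}
    (hx : x ∈ Subgroup.closure {e | ∃ j, j < T.k ∧ e = g j}) :
    ∃ i, i < T.N ∧ x = T.phi g i := by
  have hN : 0 < T.N := by
    simp only [ok, Bool.and_eq_true, decide_eq_true_eq] at hok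
    exact hok.1.1.1
  induction hx using Subgroup.closure_induction_left with
  | one => exact ⟨0, hN, (phi_zero T g).symm⟩
  | mul_left a ha y _ ih =>
    obtain ⟨j, hj, rfl⟩ := ha
    obtain ⟨i, hi, rfl⟩ := ih
    obtain ⟨e, hlt⟩ := mul_phi hok hsq hw hj hi
    exact ⟨_, hlt, e⟩
  | inv_mul_cancel a ha y _ ih =>
    obtain ⟨j, hj, rfl⟩ := ha
    obtain ⟨i, hi, rfl⟩ := ih
    obtain ⟨e, hlt⟩ := mul_phi hok hsq hw hj hi
    exact ⟨_, hlt, by rw [inv_eq_of_mul_eq_one_right (hsq j hj), e]⟩

end Tab

end CfsgLib.Tits.WideTab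

namespace CfsgLib.Tits.WideTab

open CfsgLib.Schur CfsgLib.Schur.InvolLift
open scoped commutatorElement

variable {G E : Type*} [Group G] [Group E]

theorem map_phi {H : Type*} [Group H] (T : Tab) (f : E →* H) (g : ℕ → E) :
    ∀ t, f (T.phi g t) = T.phi (fun j => f (g j)) t := by
  intro t
  induction t using Nat.strong_induction_on with
  | _ t ih =>
    by_cases h : 0 < t ∧ (T.tree.getD (t - 1) (0, 0)).2 < t
    · conv_lhs => rw [Tab.phi, if_pos h, map_mul, ih _ h.2]
      conv_rhs => rw [Tab.phi, if_pos h]
    · conv_lhs => rw [Tab.phi, if_neg h, map_one]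
      conv_rhs => rw [Tab.phi, if_neg h]

/-- A certified table splits the preimage of the generated subgroup, so there is no stem double cover. -/
theorem no_double.{u} {G E : Type u} [Group G] [Group E] [Finite E] [Finite G] {τ : E →* G}
    (hτ : Cfsg.IsStemExtension τ) (h2 : Nat.card τ.ker = 2) (T : Tab) (O : List ℕ) (g : ℕ → G)
    (hok : T.ok = true) (hgen : ∀ j, j < T.k → g j * g j = 1 ∧ SqOne τ (g j))
    (hw : ∀ w ∈ T.words, WordOK (fun x => x * x = 1 ∧ SqOne τ x) O g w)
    (hO : ∀ j ∈ O, j ≠ 0 ∧ (g 0 * g j) ^ 3 = 1)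
    (hU : ∀ U : Subgroup G, U = Subgroup.closure {e | ∃ j, j < T.k ∧ e = g j} → T.N ≤ Nat.card U)
    (hodd : ∀ m, T.N * m = Nat.card G → ¬ 2 ∣ m) : False := by
  classical
  have D := double_of_card_two hτ h2
  choose L hL using fun j => D.surj (g j)
  have hO3 : ∀ j ∈ O, (L 0 * L j) ^ 3 ∈ τ.ker := fun j hj => by
    rw [MonoidHom.mem_ker, map_pow, map_mul, hL, hL, (hO j hj).2]
  let G' : ℕ → E := fun j => if j ∈ O then L j * (L 0 * L j) ^ 3 else L j
  have hG' : ∀ j, τ (G' j) = g j := fun j => by
    simp only [G']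
    split_ifs with h
    · rw [map_mul, MonoidHom.mem_ker.mp (hO3 j h), mul_one, hL]
    · exact hL j
  have hsq : ∀ j, j < T.k → G' j * G' j = 1 := fun j hj => (hgen j hj).2 _ (hG' j)
  have hG0 : G' 0 = L 0 := by
    simp only [G']; rw [if_neg fun h => (hO 0 h).1 rfl]
  have hwE : ∀ w ∈ T.words, (w.map G').prod = 1 := fun w hwm => by
    rcases hw w hwm with ⟨v, rfl, -, hv⟩ | ⟨j, hj, rfl⟩
    · rw [List.map_append, List.prod_append]
      refine hv _ ?_
      rw [map_list_prod, List.map_map]
      congr 1
      exact List.map_congr_left fun a _ => hG' a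
    · have e : G' j = L j * (L 0 * L j) ^ 3 := if_pos hj
      simp only [List.map_cons, List.map_nil, List.prod_cons, List.prod_nil, mul_one, e, hG0]
      set d := (L 0 * L j) ^ 3 with hd
      have hc : Commute (L 0 * L j) d := D.comm (hO3 j hj) _
      calc L 0 * (L j * d * (L 0 * (L j * d * (L 0 * (L j * d)))))
          = ((L 0 * L j) * d) ^ 3 := by rw [pow_succ, pow_succ, pow_one]; group
        _ = d * d ^ 3 := by rw [hc.mul_pow]
        _ = (d * d) * (d * d) := by rw [pow_succ, pow_succ, pow_one]; group
        _ = 1 := by rw [D.sq (hO3 j hj), one_mul]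
  have hgG : ∀ j, j < T.k → g j * g j = 1 := fun j hj => (hgen j hj).1
  have hwG : ∀ w ∈ T.words, (w.map g).prod = 1 := fun w hwm =>
    prod_word_eq_one (fun _ h => h.1) (fun j hj => (hO j hj).2) (hw w hwm)
  have hbound := hU _ rfl
  set U : Subgroup G := Subgroup.closure {e | ∃ j, j < T.k ∧ e = g j} with hU
  set W : Subgroup E := Subgroup.closure {e | ∃ j, j < T.k ∧ e = G' j} with hW
  have hphi : ∀ t, τ (T.phi G' t) = T.phi g t := fun t => by
    rw [map_phi, show (fun j => τ (G' j)) = g from funext hG']
  have hN : 0 < T.N := by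
    simp only [Tab.ok, Bool.and_eq_true, decide_eq_true_eq] at hok
    exact hok.1.1.1
  have hmap : W.map τ = U := by
    rw [hW, hU, MonoidHom.map_closure]
    congr 1
    ext e
    constructor
    · rintro ⟨_, ⟨j, hj, rfl⟩, rfl⟩; exact ⟨j, hj, hG' j⟩
    · rintro ⟨j, hj, rfl⟩; exact ⟨_, ⟨j, hj, rfl⟩, hG' j⟩
  have hmem : ∀ i, i < T.N → T.phi g i ∈ U := by
    intro i hi
    induction i using Nat.strong_induction_on with
    | _ i ih =>
      rw [Tab.phi]
      split_ifs with h
      · refine mul_mem (Subgroup.subset_closure ⟨_, ?_, rfl⟩) (ih _ h.2 (h.2.trans hi))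
        have hlen : T.tree.length + 1 = T.N ∧ T.treeKnown T.tree 1 0 ≠ none := by
          simp only [Tab.ok, Bool.and_eq_true, decide_eq_true_eq] at hok
          refine ⟨hok.1.2, fun e => ?_⟩
          rw [e] at hok; simp at hok
        have hall : ∀ (l : List (ℕ × ℕ)) (t K : ℕ), T.treeKnown l t K ≠ none →
            ∀ p ∈ l, p.1 < T.k := by
          intro l
          induction l with
          | nil => simp
          | cons p l ihl =>
            obtain ⟨a, b⟩ := p
            intro t K h q hq
            rw [Tab.treeKnown] at h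
            split_ifs at h with hc
            · simp only [Bool.and_eq_true, decide_eq_true_eq] at hc
              rcases List.mem_cons.1 hq with rfl | hq
              · exact hc.1.1.1.1
              · exact ihl _ _ h q hq
            · exact absurd rfl h
        refine hall _ _ _ hlen.2 _ ?_
        rw [List.getD_eq_getElem?_getD, List.getElem?_eq_getElem (by omega)]
        exact List.getElem_mem _
      · exact one_mem U
  have hsurj : Function.Surjective fun i : Fin T.N => (⟨T.phi g i, hmem i i.2⟩ : U) := by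
    rintro ⟨x, hx⟩
    obtain ⟨i, hi, rfl⟩ := Tab.exists_eq_phi hok hgG hwG hx
    exact ⟨⟨i, hi⟩, rfl⟩
  have hbij : Function.Bijective fun i : Fin T.N => (⟨T.phi g i, hmem i i.2⟩ : U) :=
    hsurj.bijective_of_nat_card_le (by rw [Nat.card_fin]; exact hbound)
  have hinj : ∀ i i', i < T.N → i' < T.N → T.phi g i = T.phi g i' → i = i' := fun i i' hi hi' he =>
    congrArg Fin.val (hbij.1 (a₁ := ⟨i, hi⟩) (a₂ := ⟨i', hi'⟩) (Subtype.ext he))
  have hcardU : Nat.card U = T.N := by rw [← Nat.card_congr (Equiv.ofBijective _ hbij), Nat.card_fin]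
  have hinter : ∀ z ∈ W, τ z = 1 → z = 1 := fun z hz h1 => by
    obtain ⟨i, hi, rfl⟩ := Tab.exists_eq_phi hok hsq hwE hz
    rw [hphi, ← Tab.phi_zero T g] at h1
    rw [hinj i 0 hi hN h1, Tab.phi_zero]
  have hindex : ¬ 2 ∣ U.index :=
    hodd _ (by rw [← hcardU, Subgroup.card_mul_index])
  obtain ⟨⟨z, hzk⟩, hz⟩ := exists_prime_orderOf_dvd_card' (p := 2) (G := τ.ker) (by rw [h2])
  rw [Subgroup.orderOf_mk] at hz
  have hmem := mem_commutator_preimage (a := 1) hτ.1 Nat.prime_two hzk (hτ.2.1 hzk) (hτ.2.2 hzk)
    (by rw [pow_one, ← hz, pow_orderOf_eq_one]) U hindex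
  have hle : ⁅U.comap τ, U.comap τ⁆ ≤ W := by
    rw [Subgroup.commutator_le]
    intro x hx y hy
    rw [Subgroup.mem_comap, ← hmap] at hx hy
    obtain ⟨a, ha, hax⟩ := hx
    obtain ⟨b, hb, hby⟩ := hy
    rw [commutatorElement_congr τ hτ.2.1 hax.symm hby.symm, commutatorElement_def]
    exact mul_mem (mul_mem (mul_mem ha hb) (inv_mem ha)) (inv_mem hb)
  rw [hinter z (hle hmem) (MonoidHom.mem_ker.mp hzk), orderOf_one] at hz
  exact absurd hz (by norm_num)

end CfsgLib.Tits.WideTab
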