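import Cfsg.Agent.Lib.Chev.TitsGroup
import Cfsg.Agent.Lib.Tits.Eval

/-!
Words in four involutions of the Tits group: an extraspecial subgroup of order 27 and an elementary
abelian subgroup of order 25, all of whose nontrivial elements are conjugate, and an element of order
three normalising the latter.
-/

set_option autoImplicit false
set_option maxRecDepth 100000

namespace CfsgLib.Tits

open Cfsg.Lie CfsgLib.Chev CfsgLib.Chev.F4Two Packed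

theorem inv_mul_eq_inv {G : Type*} [Group G] {a x : G} (h : x * x = 1) : a⁻¹ * x = (x * a)⁻¹ := by
  rw [mul_inv_rev, inv_eq_of_mul_eq_one_right h]

/-- The root words of the four generators. -/
def gw : Fin 4 → List ℕ := ![[33, 24], [14, 23], [28, 30], [19, 17]]

/-- The root word of a word in the generators. -/
def tW : List (Fin 4) → List ℕ
  | [] => []
  | i :: l => gw i ++ tW l

theorem gw_chk : eqChk (orbWord 24) (gw 0) = true ∧ eqChk (wA ++ gw 0 ++ wA.reverse) (gw 1) = true ∧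
    eqChk (orbWord 28) (gw 2) = true ∧ eqChk (wB ++ gw 2 ++ wB.reverse) (gw 3) = true ∧
    (∀ i, eqChk (gw i ++ gw i) [] = true) ∧ (∀ r ∈ wA, r < tabF4.n) ∧ (∀ r ∈ wB, r < tabF4.n) := by
  decide +kernel

theorem img_gw (i : Fin 4) : Img (gw i) 1 := by
  obtain ⟨al, -, himg⟩ := imgs
  have i24 : Img (orbWord 24) 1 := himg 24 (by simp [reps12])
  have i28 : Img (orbWord 28) 1 := himg 28 (by simp [reps12])
  obtain ⟨c0, c1, c2, c3, -, hA', hB'⟩ := gw_chk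
  have j0 := i24.congr c0
  have j2 := i28.congr c2
  obtain ⟨ba, hA⟩ : ∃ a, Img wA a := ⟨_, memA, rfl⟩
  obtain ⟨bb, hB⟩ : ∃ a, Img wB a := ⟨_, memB, rfl⟩
  fin_cases i
  · exact j0
  · exact Img.conj hA j0 hA' c1
  · exact j2
  · exact Img.conj hB j2 hB' c3

/-- The four generators. -/
noncomputable def tGen (i : Fin 4) : TitsGroup :=
  ⟨⟨Wd (gw i), (img_gw i).choose⟩, by
    rw [← Abelianization.ker_of ↥G2, MonoidHom.mem_ker]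
    exact (img_gw i).choose_spec⟩

/-- The element of a word. -/
noncomputable def tEl (l : List (Fin 4)) : TitsGroup := (l.map tGen).prod

theorem tEl_append (l m : List (Fin 4)) : tEl (l ++ m) = tEl l * tEl m := by
  simp [tEl]

theorem coe_tEl : ∀ l, (((tEl l : TitsGroup) : ↥G2) : Matrix.GeneralLinearGroup chevF4.Idx (ZMod 2)) = Wd (tW l)
  | [] => by simp [tEl, tW, Wd_nil]
  | i :: l => by
    rw [show tEl (i :: l) = tGen i * tEl l by simp [tEl], tW, Wd_append, ← coe_tEl l,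
      Subgroup.coe_mul, Subgroup.coe_mul]
    exact congrArg (· * _) (Subtype.coe_mk _ _)

theorem tEl_eq {l m : List (Fin 4)} (h : eqChk (tW l) (tW m) = true) : tEl l = tEl m := by
  refine Subtype.ext (Subtype.ext ?_)
  rw [coe_tEl, coe_tEl]
  exact Wd_eq_of_eqChk h

theorem tEl_reverse : ∀ l, tEl l.reverse = (tEl l)⁻¹
  | [] => by simp [tEl]
  | i :: l => by
    have h : tEl [i] * tEl [i] = 1 := by
      rw [← tEl_append, tEl_eq (l := [i] ++ [i]) (m := []) (by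
        simpa [tW] using gw_chk.2.2.2.2.1 i)]
      rfl
    rw [List.reverse_cons, tEl_append, tEl_reverse l, show i :: l = [i] ++ l from rfl, tEl_append]
    exact inv_mul_eq_inv h

/-- The centre of the subgroup of order 27. -/
def lz : List (Fin 4) := [0, 1]
/-- A generator of the subgroup of order 27. -/
def la : List (Fin 4) := [2, 3, 2, 3, 2, 1, 0, 2, 1, 3, 2, 3, 2, 0, 1, 2, 3, 2, 3, 1, 2, 0, 1, 2, 3, 2, 3, 2]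
/-- A generator of the subgroup of order 27. -/
def lb : List (Fin 4) := [2, 3, 1, 3, 1, 3, 2, 3, 0, 2, 3, 1, 3, 1, 3, 2, 0, 1, 2, 3, 1, 3, 1, 3, 2, 0, 3, 2, 3, 1, 3, 1, 3, 2]
/-- A generator of the subgroup of order 25. -/
def le : List (Fin 4) := [2, 3]
/-- A generator of the subgroup of order 25. -/
def lf : List (Fin 4) := [1, 0, 2, 1, 3, 2, 3, 2, 0, 1, 0, 2, 3, 0, 1, 0, 2, 3, 2, 3, 1, 2, 0, 1]
/-- An element of order three normalising the subgroup of order 25. -/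
def lt : List (Fin 4) := [0, 2, 1, 3, 0, 2, 0, 1, 2, 0, 3, 1, 2, 0]

/-- The word `l` repeated. -/
def rep (n : ℕ) (l : List (Fin 4)) : List (Fin 4) := (List.replicate n l).flatten

theorem tEl_rep : ∀ (n : ℕ) (l : List (Fin 4)), tEl (rep n l) = tEl l ^ n
  | 0, l => by simp [rep, tEl]
  | n + 1, l => by
    rw [show rep (n + 1) l = l ++ rep n l from rfl, tEl_append, tEl_rep n l, pow_succ']

/-- Exponents of the nontrivial elements of the subgroup of order 27, each with a word conjugating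
the centre to it. -/
def wit3 : List ((ℕ × ℕ × ℕ) × List (Fin 4)) := [
  ((0, 0, 1), []),
  ((0, 0, 2), [0]),
  ((0, 1, 0), [2, 3, 1, 3, 1, 3, 2, 3, 0, 2, 3, 1, 3, 1, 3, 2]),
  ((0, 1, 1), [3, 2, 3, 0, 2, 1, 0, 2, 3, 2, 3, 2, 0, 2, 1, 0, 2]),
  ((0, 1, 2), [2, 3, 2, 0, 1, 3, 0, 2, 1, 0, 2, 3, 1, 3, 1, 3, 2, 0]),
  ((0, 2, 0), [3, 2, 0, 1, 3, 1, 3, 2, 3, 2, 0, 2, 0, 1, 3, 2]),
  ((0, 2, 1), [2, 3, 2, 0, 1, 3, 0, 2, 1, 0, 2, 3, 1, 3, 1, 3, 2]),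
  ((0, 2, 2), [2, 0, 2, 0, 1, 3, 2, 1, 3, 2, 3, 1, 3, 1, 0, 2, 3]),
  ((1, 0, 0), [2, 3, 2, 3, 2, 1, 0, 2, 1, 3, 2, 3, 2]),
  ((1, 0, 1), [2, 3, 0, 2, 3, 0, 2, 1, 3, 2, 1, 0, 2, 3, 2, 3, 0, 2]),
  ((1, 0, 2), [2, 3, 2, 3, 1, 3, 0, 1, 3, 2, 0, 2, 0, 1, 3, 2, 3, 2, 0]),
  ((1, 1, 0), [2, 3, 0, 2, 3, 2, 0, 1, 3, 0, 2, 3, 1, 0, 2, 1, 0, 2]),
  ((1, 1, 1), [3, 1, 3, 0, 2, 1, 3, 1, 0, 2, 1, 3, 1, 3, 0, 2, 1, 0, 2]),
  ((1, 1, 2), [2, 3, 1, 3, 2, 3, 0, 2, 0, 2, 3, 2, 0, 1, 3, 0, 1, 3]),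
  ((1, 2, 0), [3, 2, 0, 2, 0, 2, 3, 2, 1, 3, 2, 0, 2, 0, 2, 3]),
  ((1, 2, 1), [3, 1, 3, 0, 2, 1, 3, 2, 3, 2, 1, 3, 0, 2, 1, 3, 2]),
  ((1, 2, 2), [2, 3, 1, 3, 1, 3, 2, 0, 2, 1, 3, 1, 0, 2, 1, 3, 2, 0]),
  ((2, 0, 0), [2, 3, 2, 3, 2, 1, 0, 2, 1, 3, 2, 3, 2, 0]),
  ((2, 0, 1), [2, 3, 2, 3, 1, 3, 0, 1, 3, 2, 0, 2, 0, 1, 3, 2, 3, 2]),
  ((2, 0, 2), [2, 3, 0, 2, 3, 2, 0, 2, 1, 3, 2, 1, 3, 0, 2, 3, 0, 2]),
  ((2, 1, 0), [2, 3, 1, 3, 1, 3, 2, 0, 2, 1, 3, 1, 0, 2, 1, 3, 2]),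
  ((2, 1, 1), [3, 1, 3, 1, 0, 2, 3, 0, 2, 3, 2, 0, 2, 0, 1, 3, 2]),
  ((2, 1, 2), [2, 3, 1, 0, 2, 0, 2, 3, 2, 3, 1, 3, 1, 0, 2, 3]),
  ((2, 2, 0), [3, 2, 3, 0, 2, 1, 3, 0, 1, 3, 1, 3, 2, 3, 0, 1, 3, 0, 2]),
  ((2, 2, 1), [3, 2, 0, 2, 3, 2, 1, 3, 1, 3, 2, 3, 1, 0, 2, 1, 0, 2]),
  ((2, 2, 2), [3, 1, 3, 1, 3, 2, 1, 3, 2, 0, 2, 3, 0, 2, 3, 1, 3, 2])]

/-- Exponents of the nontrivial elements of the subgroup of order 25, each with a word conjugating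
the first generator to it. -/
def wit5 : List ((ℕ × ℕ) × List (Fin 4)) := [
  ((0, 1), [1, 0, 2, 1, 3, 2, 3, 2, 0, 1, 0]),
  ((0, 2), [0, 2, 1, 0, 2, 0, 2, 3, 2, 3, 2, 0, 2, 0, 2, 1, 0]),
  ((0, 3), [0, 2, 3, 0, 2, 3, 1, 0, 2, 3, 1, 3, 0, 2, 0, 2, 0]),
  ((0, 4), [1, 0, 2, 1, 3, 2, 3, 2, 0, 1, 3, 0]),
  ((1, 0), []),
  ((1, 1), [0, 2, 1, 3, 0, 2, 0, 2, 1, 3, 0, 2, 1, 0]),
  ((1, 2), [2, 1, 3, 0, 2, 1, 0, 2, 3, 1, 3, 0, 1, 3, 1, 3, 1, 0]),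
  ((1, 3), [0, 2, 1, 3, 0, 1, 3, 0, 2, 0, 2, 0, 2, 0, 1, 0]),
  ((1, 4), [2, 0, 2, 1, 3, 0, 2, 0, 2, 1, 3, 0, 2, 1, 3, 0]),
  ((2, 0), [0, 2, 1, 3, 2, 0, 2, 3, 1, 0, 2, 1, 0, 2, 0]),
  ((2, 1), [0, 2, 1, 3, 0, 2, 1, 0, 2, 3, 0, 2, 1, 3, 0]),
  ((2, 2), [1, 0, 2, 0, 2, 0, 2, 1, 0, 2, 3, 1, 3, 0, 2, 1, 0]),
  ((2, 3), [2, 1, 0, 2, 1, 0, 2, 0, 2, 3, 0, 1, 3, 0, 2, 1, 0]),
  ((2, 4), [2, 0, 2, 1, 3, 0, 2, 1, 0, 2, 3, 0, 2, 1, 0]),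
  ((3, 0), [0, 2, 0, 2, 0, 1, 3, 0, 2, 0, 2, 3, 2, 1, 0]),
  ((3, 1), [2, 0, 2, 1, 3, 0, 2, 1, 0, 2, 3, 0, 2, 1, 3, 0]),
  ((3, 2), [2, 1, 0, 2, 0, 2, 0, 2, 1, 0, 2, 3, 1, 3, 0, 2, 1, 0]),
  ((3, 3), [1, 0, 2, 1, 0, 2, 0, 2, 3, 0, 1, 3, 0, 2, 1, 0]),
  ((3, 4), [0, 2, 1, 3, 0, 2, 1, 0, 2, 3, 0, 2, 1, 0]),
  ((4, 0), [2]),
  ((4, 1), [2, 0, 2, 1, 3, 0, 2, 0, 2, 1, 3, 0, 2, 1, 0]),
  ((4, 2), [1, 3, 0, 2, 1, 0, 2, 3, 1, 3, 0, 1, 3, 1, 3, 1, 0]),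
  ((4, 3), [2, 0, 2, 1, 3, 0, 1, 3, 0, 2, 0, 2, 0, 2, 0, 1, 0]),
  ((4, 4), [0, 2, 1, 3, 0, 2, 0, 2, 1, 3, 0, 2, 1, 3, 0])]

/-- Equality check of two words. -/
def wEq (l m : List (Fin 4)) : Bool := eqP (tW l) (tW m)

theorem tEl_eq_of_wEq {l m : List (Fin 4)} (h : wEq l m = true) : tEl l = tEl m :=
  tEl_eq (eqChk_of_eqP h)

theorem lt_conj_chk : wEq lt ([0, 2, 1, 3, 0, 2] ++ lz ++ ([0, 2, 1, 3, 0, 2] : List (Fin 4)).reverse) = true := by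
  decide +kernel

theorem lt_conj : ∃ g : TitsGroup, tEl lt = g * tEl lz * g⁻¹ :=
  ⟨tEl [0, 2, 1, 3, 0, 2], by rw [tEl_eq_of_wEq lt_conj_chk, tEl_append, tEl_append, tEl_reverse]⟩

theorem rel3 : wEq (rep 3 lz) [] = true ∧ wEq (rep 3 la) [] = true ∧ wEq (rep 3 lb) [] = true ∧
    wEq (lz ++ la) (la ++ lz) = true ∧ wEq (lz ++ lb) (lb ++ lz) = true ∧
    wEq (lb ++ la) (la ++ lb ++ lz) = true := by
  decide +kernel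

theorem rel5 : wEq (rep 5 le) [] = true ∧ wEq (rep 5 lf) [] = true ∧
    wEq (le ++ lf) (lf ++ le) = true ∧ wEq (rep 3 lt) [] = true ∧
    wEq (lt.reverse ++ le ++ lt) (rep 3 le ++ rep 4 lf) = true ∧
    wEq (lt.reverse ++ lf ++ lt) (rep 3 le ++ rep 1 lf) = true := by
  decide +kernel

theorem wit3_chk : (wit3.all fun p =>
    wEq (rep p.1.1 la ++ rep p.1.2.1 lb ++ rep p.1.2.2 lz) (p.2 ++ lz ++ p.2.reverse)) = true := by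
  decide +kernel

theorem wit5_chk : (wit5.all fun p =>
    wEq (rep p.1.1 le ++ rep p.1.2 lf) (p.2 ++ le ++ p.2.reverse)) = true := by
  decide +kernel

/-- Distinguishing value of a word: the images of two vectors. -/
def wKey (l : List (Fin 4)) : ℕ × ℕ := (evalW (tW l) 1, evalW (tW l) (2 ^ 20))

theorem ne_one_chk : ((wit3.all fun p =>
      decide (wKey (rep p.1.1 la ++ rep p.1.2.1 lb ++ rep p.1.2.2 lz) ≠ wKey [])) &&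
    (wit5.all fun p => decide (wKey (rep p.1.1 le ++ rep p.1.2 lf) ≠ wKey []))) = true := by
  decide +kernel

end CfsgLib.Tits
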